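import Mathlib.Topology.Spectral.ConstructibleTopology

/-!
# Generalizations of quasi-compact sets in spectral spaces
-/

set_option autoImplicit false
universe u

open Topology TopologicalSpace

namespace GrothLib.PropH0

variable {X : Type u} [TopologicalSpace X]

/-- Closed for the constructible topology. -/
def CClosed (s : Set X) : Prop := IsClosed[constructibleTopology X] s

theorem cClosed_of_isClosed [PrespectralSpace X] {s : Set X} (hs : IsClosed s) : CClosed s := by
  obtain ⟨S, hS, e⟩ :=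
    PrespectralSpace.isTopologicalBasis.open_eq_sUnion hs.isOpen_compl
  refine @IsClosed.mk _ (constructibleTopology X) _ ?_
  rw [e]
  exact @isOpen_sUnion _ (constructibleTopology X) _ fun t ht =>
    (hS ht).2.isOpen_constructibleTopology_of_isOpen (hS ht).1

theorem cClosed_of_isCompact_of_isOpen {s : Set X} (hc : IsCompact s) (ho : IsOpen s) : CClosed s :=
  @IsClosed.mk _ (constructibleTopology X) _
    (IsCompact.isOpen_constructibleTopology_of_isClosed (by rwa [compl_compl]) ho.isClosed_compl)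

theorem CClosed.inter {s t : Set X} (hs : CClosed s) (ht : CClosed t) : CClosed (s ∩ t) :=
  @IsClosed.inter _ _ _ (constructibleTopology X) hs ht

theorem cClosed_iUnion {ι : Type*} [Finite ι] {s : ι → Set X} (hs : ∀ i, CClosed (s i)) :
    CClosed (⋃ i, s i) :=
  @isClosed_iUnion_of_finite _ _ (constructibleTopology X) _ _ hs

theorem cClosed_iInter {ι : Sort*} {s : ι → Set X} (hs : ∀ i, CClosed (s i)) : CClosed (⋂ i, s i) :=
  @isClosed_iInter _ _ (constructibleTopology X) _ hs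

variable [SpectralSpace X]

theorem nonempty_iInter {ι : Type*} [Nonempty ι] (C : ι → Set X) (hd : Directed (· ⊇ ·) C)
    (hc : ∀ i, CClosed (C i)) (hne : ∀ i, (C i).Nonempty) : (⋂ i, C i).Nonempty := by
  haveI : CompactSpace (WithConstructibleTopology X) := compactSpace_withConstructibleTopology
  have hcl : ∀ i, IsClosed ((WithTopology.ofTopology : WithConstructibleTopology X → X) ⁻¹' C i) :=
    fun i => @IsClosed.preimage _ _ _ (constructibleTopology X) _
      (WithTopology.continuous_ofTopology _) _ (hc i)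
  have hd' : Directed (· ⊇ ·) fun i => (WithTopology.ofTopology : WithConstructibleTopology X → X) ⁻¹' C i :=
    fun i j => by
      obtain ⟨k, h1, h2⟩ := hd i j
      exact ⟨k, Set.preimage_mono h1, Set.preimage_mono h2⟩
  obtain ⟨x, hx⟩ := IsCompact.nonempty_iInter_of_directed_nonempty_isCompact_isClosed _ hd'
    (fun i => (hne i).preimage (WithTopology.ofTopology_surjective (constructibleTopology X))) (fun i => (hcl i).isCompact) hcl
  exact ⟨WithTopology.ofTopology x, Set.mem_iInter.2 fun i => Set.mem_iInter.1 hx i⟩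

theorem exists_specializes_of_mem_closure {C : Set X} (hC : CClosed C) {y : X} (hy : y ∈ closure C) :
    ∃ c ∈ C, c ⤳ y := by
  let ι := {U : Set X // (IsOpen U ∧ IsCompact U) ∧ y ∈ U}
  have hb : ∀ O : Set X, IsOpen O → y ∈ O → ∃ U : ι, U.1 ⊆ O := fun O hO hyO => by
    obtain ⟨U, hU, hyU, hUO⟩ :=
      PrespectralSpace.isTopologicalBasis.exists_subset_of_mem_open hyO hO
    exact ⟨⟨U, hU, hyU⟩, hUO⟩
  haveI : Nonempty ι := ⟨(hb Set.univ isOpen_univ trivial).choose⟩
  obtain ⟨c, hc⟩ := nonempty_iInter (fun U : ι => U.1 ∩ C) (fun U V => by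
      obtain ⟨W, hW⟩ := hb (U.1 ∩ V.1) (U.2.1.1.inter V.2.1.1) ⟨U.2.2, V.2.2⟩
      exact ⟨W, Set.inter_subset_inter_left _ (hW.trans Set.inter_subset_left),
        Set.inter_subset_inter_left _ (hW.trans Set.inter_subset_right)⟩)
    (fun U => (cClosed_of_isCompact_of_isOpen U.2.1.2 U.2.1.1).inter hC)
    (fun U => mem_closure_iff.1 hy _ U.2.1.1 U.2.2)
  obtain ⟨U₀⟩ := ‹Nonempty ι›
  refine ⟨c, (Set.mem_iInter.1 hc U₀).2, specializes_iff_forall_open.2 fun O hO hyO => ?_⟩
  obtain ⟨U, hU⟩ := hb O hO hyO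
  exact hU (Set.mem_iInter.1 hc U).1

theorem isClosed_of_cClosed {C : Set X} (hC : CClosed C) (h : ∀ x ∈ C, ∀ y, x ⤳ y → y ∈ C) :
    IsClosed C :=
  closure_subset_iff_isClosed.1 fun y hy => by
    obtain ⟨c, hc, hcy⟩ := exists_specializes_of_mem_closure hC hy
    exact h c hc y hcy

/-- The points specializing into a set. -/
def gen (K : Set X) : Set X := {x | ∃ k ∈ K, x ⤳ k}

omit [SpectralSpace X] in
theorem subset_gen (K : Set X) : K ⊆ gen K := fun k hk => ⟨k, hk, specializes_rfl⟩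

theorem cClosed_gen {K : Set X} (hK : IsCompact K) : CClosed (gen K) := by
  let ι := {U : Set X // (IsOpen U ∧ IsCompact U) ∧ K ⊆ U}
  have e : gen K = ⋂ U : ι, U.1 := by
    ext x
    constructor
    · rintro ⟨k, hk, hxk⟩
      exact Set.mem_iInter.2 fun U => hxk.mem_open U.2.1.1 (U.2.2 hk)
    · intro hx
      by_contra hnot
      have h : ∀ k ∈ K, ∃ U : Set X, (IsOpen U ∧ IsCompact U) ∧ k ∈ U ∧ x ∉ U := by
        intro k hk
        obtain ⟨O, hO, hkO, hxO⟩ : ∃ O, IsOpen O ∧ k ∈ O ∧ x ∉ O := by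
          have : ¬ (x ⤳ k) := fun h => hnot ⟨k, hk, h⟩
          rw [specializes_iff_forall_open] at this
          push_neg at this
          exact this
        obtain ⟨U, hU, hkU, hUO⟩ :=
          PrespectralSpace.isTopologicalBasis.exists_subset_of_mem_open hkO hO
        exact ⟨U, hU, hkU, fun h => hxO (hUO h)⟩
      choose U hU hkU hxU using h
      obtain ⟨t, ht⟩ := hK.elim_finite_subcover (fun k : K => U k.1 k.2) (fun k => (hU k.1 k.2).1)
        (fun k hk => Set.mem_iUnion.2 ⟨⟨k, hk⟩, hkU k hk⟩)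
      have := Set.mem_iInter.1 hx ⟨⋃ k ∈ t, U k.1 k.2,
        ⟨isOpen_biUnion fun k _ => (hU k.1 k.2).1, t.finite_toSet.isCompact_biUnion fun k _ => (hU k.1 k.2).2⟩, ht⟩
      obtain ⟨k, -, hk⟩ := Set.mem_iUnion₂.1 this
      exact hxU k.1 k.2 hk
  rw [e]
  exact cClosed_iInter fun U => cClosed_of_isCompact_of_isOpen U.2.1.2 U.2.1.1

/-- If every closure of a point meets `Z` in a connected set, clopen subsets of `Z` extend. -/
theorem exists_isClopen_extend {Z : Set X} (hZ : IsClosed Z)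
    (hconn : ∀ x : X, IsConnected (Z ∩ closure {x})) {V V' : Set X} (hV : IsClosed V)
    (hV' : IsClosed V') (hu : V ∪ V' = Z) (hd : Disjoint V V') :
    ∃ U : Set X, IsClopen U ∧ U ∩ Z = V := by
  have hmem : ∀ x (W : Set X), x ∈ gen W ↔ (W ∩ closure {x}).Nonempty := fun x W =>
    ⟨fun ⟨k, hk, h⟩ => ⟨k, hk, h.mem_closure⟩,
      fun ⟨k, hk, h⟩ => ⟨k, hk, specializes_iff_mem_closure.2 h⟩⟩
  have hor : ∀ x, x ∈ gen V ↔ x ∉ gen V' := by
    intro x
    constructor
    · intro h1 h2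
      obtain ⟨a, ha, hax⟩ := (hmem x V).1 h1
      obtain ⟨b, hb, hbx⟩ := (hmem x V').1 h2
      obtain ⟨c, -, hc, hc'⟩ := isPreconnected_closed_iff.1 (hconn x).isPreconnected V V' hV hV'
        (by rw [hu]; exact Set.inter_subset_left) ⟨a, ⟨hu ▸ Or.inl ha, hax⟩, ha⟩
        ⟨b, ⟨hu ▸ Or.inr hb, hbx⟩, hb⟩
      exact Set.disjoint_left.1 hd hc hc'
    · intro h
      obtain ⟨z, hzZ, hzx⟩ := (hconn x).nonempty
      rw [← hu] at hzZ
      rcases hzZ with hz | hz
      · exact (hmem x V).2 ⟨z, hz, hzx⟩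
      · exact (h ((hmem x V').2 ⟨z, hz, hzx⟩)).elim
  have hstab : ∀ (W W' : Set X), (∀ x, x ∈ gen W ↔ x ∉ gen W') → ∀ x ∈ gen W, ∀ y, x ⤳ y → y ∈ gen W :=
    fun W W' h x hx y hxy => (h y).2 fun ⟨k, hk, hyk⟩ => (h x).1 hx ⟨k, hk, hxy.trans hyk⟩
  have hor' : ∀ x, x ∈ gen V' ↔ x ∉ gen V := fun x => by rw [hor x, not_not]
  have h1 : IsClosed (gen V) := isClosed_of_cClosed (cClosed_gen hV.isCompact) (hstab V V' hor)
  have h2 : IsClosed (gen V') := isClosed_of_cClosed (cClosed_gen hV'.isCompact) (hstab V' V hor')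
  have e : (gen V)ᶜ = gen V' := Set.ext fun x => (hor' x).symm
  refine ⟨gen V, ⟨h1, isClosed_compl_iff.1 (e ▸ h2)⟩, Set.Subset.antisymm ?_ ?_⟩
  · rintro x ⟨hx, hxZ⟩
    rw [← hu] at hxZ
    exact hxZ.resolve_right fun h => (hor x).1 hx (subset_gen V' h)
  · exact fun x hx => ⟨subset_gen V hx, hu ▸ Or.inl hx⟩

end GrothLib.PropH0
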