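import Groth.Agent.Lib.PropH0.Descend
import Groth.Agent.Lib.PropH0.Spectral
import Groth.Agent.Lib.Chow.Main
import Groth.Agent.Lib.Chow.Prod

/-!
# Open-closed subsets of proper schemes over henselian pairs
-/

set_option autoImplicit false
universe u

open CategoryTheory CategoryTheory.Limits AlgebraicGeometry Opposite TopologicalSpace

namespace GrothLib.PropH0

variable {A : Type u} [CommRing A] {X : Scheme.{u}} (f : X ⟶ Spec (CommRingCat.of A)) (I : Ideal A)
  [HenselianRing A I]

theorem isConnected_Z0 [IsProper f] [IrreducibleSpace X] : _root_.IsConnected (Z0 f I) := by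
  have hfin : (irreducibleComponents (X : Type u)).Finite := by
    refine (Set.finite_singleton Set.univ).subset fun s hs => ?_
    exact (hs.eq_of_ge (IrreducibleSpace.isIrreducible_univ X) (Set.subset_univ s)).symm
  obtain ⟨M, X', π, i, _, hib, _, _, -, hirr, -⟩ := GrothLib.Chow.chow_of_finite_components f hfin
  haveI := hirr ‹_›
  haveI hb : IsProper (CohB1.ProjSpaceOver.toBase M (Spec (CommRingCat.of A))) :=
    GrothLib.Chow.isProper_toBase M _
  haveI : IsProper (i ≫ CohB1.ProjSpaceOver.toBase M (Spec (CommRingCat.of A))) := hib ▸ inferInstance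
  haveI : IsProper i := IsProper.of_comp i (CohB1.ProjSpaceOver.toBase M (Spec (CommRingCat.of A)))
  haveI := GrothLib.Chow.isProper_toSpec M (ULift.{u} ℤ)
  have hc : _root_.IsConnected (Set.range i.base ∩ Z0 (CohB1.ProjSpaceOver.toBase M (Spec (CommRingCat.of A))) I) :=
    isConnected_inter_baseChange (Q := CohB1.ProjSpace M (ULift.{u} ℤ)) specULiftZIsTerminal
      (IsPullback.of_hasPullback (CohB1.ProjSpace.toSpec M (ULift.{u} ℤ))
        (specULiftZIsTerminal.from (Spec (CommRingCat.of A))))
      (by rw [← Set.image_univ]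
          exact (IrreducibleSpace.isIrreducible_univ X').image _ i.continuous.continuousOn)
      i.isClosedMap.isClosed_range
  rw [← range_inter_Z0] at hc
  have hi : Topology.IsEmbedding i.base := i.isEmbedding
  have h' : _root_.IsConnected (Z0 (π ≫ f) I) := by
    rw [← hib]
    exact ⟨Set.image_nonempty.1 hc.nonempty, hi.isInducing.isPreconnected_image.1 hc.isPreconnected⟩
  have := h'.image π.base π.continuous.continuousOn
  rwa [range_inter_Z0, Set.range_eq_univ.2 π.surjective, Set.univ_inter] at this

theorem isConnected_inter [IsProper f] {W : Set X} (hW : IsIrreducible W) (hWc : IsClosed W) :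
    _root_.IsConnected (W ∩ Z0 f I) := by
  obtain ⟨X', i, _, _, hi⟩ := exists_irreducible_subscheme hW hWc
  rw [← hi, ← range_inter_Z0]
  exact (isConnected_Z0 (i ≫ f) I).image _ i.continuous.continuousOn

theorem isConnected_inter_closure [IsProper f] (x : X) :
    _root_.IsConnected (Z0 f I ∩ closure {x}) := by
  rw [Set.inter_comm]
  exact isConnected_inter f I isIrreducible_singleton.closure isClosed_closure

omit [HenselianRing A I] in
theorem spectralSpace_of_proper [IsProper f] : SpectralSpace X :=
  haveI : CompactSpace X := QuasiCompact.compactSpace_of_compactSpace f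
  haveI : QuasiSeparatedSpace X := quasiSeparatedSpace_of_quasiSeparated f
  {}

theorem existsUnique_isClopen [IsProper f] {C C' : Set X} (hC : IsClosed C) (hC' : IsClosed C')
    (hu : C ∪ C' = Z0 f I) (hd : Disjoint C C') :
    ∃! U : Set X, IsClopen U ∧ U ∩ Z0 f I = C := by
  haveI := spectralSpace_of_proper f
  obtain ⟨U, hU, e⟩ := exists_isClopen_extend (isClosed_Z0 f I) (isConnected_inter_closure f I) hC hC' hu hd
  exact ⟨U, ⟨hU, e⟩, fun U' h => eq_of_inter_Z0_eq f I HenselianRing.jac h.1 hU (h.2.trans e.symm)⟩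

omit [HenselianRing A I] in
theorem range_fst_eq_Z0 :
    Set.range (pullback.fst f (Spec.map (CommRingCat.ofHom (Ideal.Quotient.mk I)))).base = Z0 f I := by
  rw [Scheme.Pullback.range_fst]
  congr 1
  exact (range_comap_of_surjective (A ⧸ I) (Ideal.Quotient.mk I) Ideal.Quotient.mk_surjective).trans
    (by rw [Ideal.mk_ker])

/-- Along any morphism whose range is the closed fibre and which is an embedding. -/
theorem existsUnique_preimage [IsProper f] {P : Type u} [TopologicalSpace P] (i : P → X)
    (hi : Topology.IsClosedEmbedding i) (hr : Set.range i = Z0 f I) (V : Set P) (hV : IsClopen V) :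
    ∃! U : Set X, IsClopen U ∧ i ⁻¹' U = V := by
  obtain ⟨U, ⟨hU, e⟩, huniq⟩ := existsUnique_isClopen f I (hi.isClosedMap _ hV.1)
    (hi.isClosedMap _ hV.compl.1) (by rw [← Set.image_union, Set.union_compl_self, Set.image_univ, hr])
    ((Set.disjoint_image_iff hi.injective).2 disjoint_compl_right)
  have key : ∀ U' : Set X, i ⁻¹' U' = V ↔ U' ∩ Z0 f I = i '' V := by
    intro U'
    rw [← hr, ← Set.image_preimage_eq_inter_range]
    exact ⟨fun h => by rw [h], fun h => Set.image_injective.2 hi.injective h⟩
  exact ⟨U, ⟨hU, (key U).2 e⟩, fun U' h => huniq U' ⟨h.1, (key U').1 h.2⟩⟩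

/-- The henselian couple. -/
theorem existsUnique_finite [IsProper f] {Y : Scheme.{u}} (g : Y ⟶ X) [IsProper g]
    (V : Set ↥(pullback g (pullback.fst f (Spec.map (CommRingCat.ofHom (Ideal.Quotient.mk I)))))) (hV : IsClopen V) :
    ∃! U : Set ↥Y, IsClopen U ∧
      (pullback.fst g (pullback.fst f (Spec.map (CommRingCat.ofHom (Ideal.Quotient.mk I))))).base ⁻¹' U = V := by
  haveI : IsClosedImmersion (Spec.map (CommRingCat.ofHom (Ideal.Quotient.mk I))) :=
    IsClosedImmersion.spec_of_surjective _ Ideal.Quotient.mk_surjective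
  refine existsUnique_preimage (g ≫ f) I _
    (pullback.fst g (pullback.fst f (Spec.map (CommRingCat.ofHom (Ideal.Quotient.mk I))))).isClosedEmbedding ?_ V hV
  rw [Scheme.Pullback.range_fst, range_fst_eq_Z0]
  rfl

end GrothLib.PropH0
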