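import Groth.Agent.Lib.PropH0.Clopen
import Mathlib.Topology.Connected.TotallyDisconnected

/-!
# Connected components of a proper scheme over a henselian pair
-/

set_option autoImplicit false
universe u

open CategoryTheory CategoryTheory.Limits AlgebraicGeometry Opposite TopologicalSpace

namespace GrothLib.PropH0

variable {A : Type u} [CommRing A] {X : Scheme.{u}} (f : X ⟶ Spec (CommRingCat.of A)) (I : Ideal A)
  [HenselianRing A I] [IsProper f]

theorem isPreconnected_Z0 [PreconnectedSpace X] : _root_.IsPreconnected (Z0 f I) := by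
  refine isPreconnected_closed_iff.2 fun C C' hC hC' hsub hne hne' => ?_
  by_contra hd
  have hZ := isClosed_Z0 f I
  obtain ⟨U, ⟨hU, hUe⟩, -⟩ := existsUnique_isClopen f I (hC.inter hZ) (hC'.inter hZ)
    (by rw [← Set.union_inter_distrib_right, Set.inter_eq_right]; exact hsub)
    (Set.disjoint_left.2 fun x hx hx' => hd ⟨x, hx.2, hx.1, hx'.1⟩)
  obtain ⟨x, hx⟩ := hne
  obtain ⟨y, hy⟩ := hne'
  rcases isClopen_iff.1 hU with h | h
  · rw [h, Set.empty_inter] at hUe
    exact hUe.symm.subset ⟨hx.2, hx.1⟩
  · rw [h, Set.univ_inter] at hUe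
    exact hd ⟨y, hy.1, (hUe.subset hy.1).1, hy.2⟩

theorem isPreconnected_inter {W : Set X} (hWc : IsClosed W) (hW : _root_.IsPreconnected W) :
    _root_.IsPreconnected (W ∩ Z0 f I) := by
  let J := Scheme.IdealSheafData.vanishingIdeal (X := X) ⟨W, hWc⟩
  have hr : Set.range J.subschemeι.base = W := by
    rw [Scheme.IdealSheafData.range_subschemeι, Scheme.IdealSheafData.coe_support_vanishingIdeal]
    rfl
  haveI : PreconnectedSpace J.subscheme := by
    constructor
    rw [← J.subschemeι.isEmbedding.isInducing.isPreconnected_image, Set.image_univ, hr]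
    exact hW
  rw [← hr, ← range_inter_Z0]
  exact (isPreconnected_Z0 (J.subschemeι ≫ f) I).image _ J.subschemeι.continuous.continuousOn

theorem bijective_connectedComponentsMap {P : Type u} [TopologicalSpace P] (i : P → X)
    (hi : Topology.IsEmbedding i) (hr : Set.range i = Z0 f I) :
    Function.Bijective (Continuous.connectedComponentsMap hi.continuous) := by
  constructor
  · intro a b
    obtain ⟨p, rfl⟩ := ConnectedComponents.surjective_coe a
    obtain ⟨q, rfl⟩ := ConnectedComponents.surjective_coe b
    intro h
    have h' : connectedComponent (i p) = connectedComponent (i q) := ConnectedComponents.coe_eq_coe.1 h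
    have hc := isPreconnected_inter f I (isClosed_connectedComponent (x := i p)) isPreconnected_connectedComponent
    have e : i '' (i ⁻¹' connectedComponent (i p)) = connectedComponent (i p) ∩ Z0 f I := by
      rw [Set.image_preimage_eq_inter_range, hr]
    rw [← e] at hc
    have hpre := hi.isInducing.isPreconnected_image.1 hc
    refine ConnectedComponents.coe_eq_coe.2 (connectedComponent_eq ?_)
    exact hpre.subset_connectedComponent (x := p) mem_connectedComponent (h' ▸ mem_connectedComponent)
  · intro a
    obtain ⟨x, rfl⟩ := ConnectedComponents.surjective_coe a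
    obtain ⟨y, hy, hyZ⟩ := inter_Z0_nonempty f I HenselianRing.jac (isClosed_connectedComponent (x := x))
      ⟨x, mem_connectedComponent⟩
    obtain ⟨p, rfl⟩ := hr.symm.subset hyZ
    exact ⟨p, ConnectedComponents.coe_eq_coe.2 (connectedComponent_eq hy).symm⟩

theorem connectedSpace_iff {P : Type u} [TopologicalSpace P] (i : P → X) (hi : Topology.IsEmbedding i)
    (hr : Set.range i = Z0 f I) : ConnectedSpace X ↔ ConnectedSpace P := by
  constructor
  · intro h
    obtain ⟨y, -, hy⟩ := inter_Z0_nonempty f I HenselianRing.jac isClosed_univ (Set.univ_nonempty (α := X))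
    obtain ⟨p, -⟩ := hr.symm.subset hy
    exact { toNonempty := ⟨p⟩, isPreconnected_univ := by
              rw [← hi.isInducing.isPreconnected_image, Set.image_univ, hr]; exact isPreconnected_Z0 f I }
  · intro h
    obtain ⟨hinj, hsurj⟩ := bijective_connectedComponentsMap f I i hi hr
    obtain ⟨p⟩ := ‹ConnectedSpace P›.toNonempty
    haveI : Nonempty X := ⟨i p⟩
    rw [connectedSpace_iff_connectedComponent]
    refine ⟨i p, Set.eq_univ_of_forall fun x => ?_⟩
    obtain ⟨c, hc⟩ := hsurj (ConnectedComponents.mk x)
    obtain ⟨q, rfl⟩ := ConnectedComponents.surjective_coe c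
    have h1 : connectedComponent (i q) = connectedComponent x := ConnectedComponents.coe_eq_coe.1 hc
    have h2 : i '' Set.univ ⊆ connectedComponent (i p) :=
      (isPreconnected_univ.image i hi.continuous.continuousOn).subset_connectedComponent ⟨p, trivial, rfl⟩
    rw [connectedComponent_eq (h2 ⟨q, trivial, rfl⟩), h1]
    exact mem_connectedComponent

end GrothLib.PropH0
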