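import Groth.Agent.Lib.PropH0.Clopen
import Groth.Agent.Lib.Nagata6.Consequences
import Groth.Agent.Lib.ProjSp.Coords

/-!
# Connectedness of the closed fibre of an irreducible scheme integral over a proper one

An irreducible scheme integral over a proper scheme maps, after a proper modification, to proper
schemes separating any finitely many given functions.
-/

set_option autoImplicit false
set_option backward.isDefEq.respectTransparency false
universe u

open CategoryTheory CategoryTheory.Limits AlgebraicGeometry Opposite TopologicalSpace MvPolynomial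

namespace GrothLib.PropH0

open GrothLib.ProjSpCoord

/-- The projective line over the integers. -/
noncomputable abbrev P1 : Scheme.{u} := CohB1.ProjSpace 1 (ULift.{u} ℤ)

/-- A function gives a map to the projective line whose non-zero locus is a fixed open. -/
theorem exists_toP1 {T : Scheme.{u}} (b : Γ(T, ⊤)) :
    ∃ g : T ⟶ P1.{u}, g ⁻¹ᵁ Proj.basicOpen (CohB1.polyGrading 1 RZ.{u}) (MvPolynomial.X 1) = T.basicOpen b := by
  let φ : MvPolynomial (Fin 2) RZ.{u} →+* Γ(T, ⊤) := evalTuple ![1, b]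
  have hφ : (HomogeneousIdeal.irrelevant (CohB1.polyGrading 1 RZ.{u})).toIdeal.map φ = ⊤ := by
    refine (Ideal.eq_top_iff_one _).2 ?_
    have h : φ (MvPolynomial.X 0) = 1 := by simp [φ]
    rw [← h]
    refine Ideal.mem_map_of_mem _ ?_
    exact HomogeneousIdeal.mem_irrelevant_of_mem _ one_pos (X_mem_one 0)
  refine ⟨Proj.fromOfGlobalSections (CohB1.polyGrading 1 RZ.{u}) φ hφ, ?_⟩
  rw [Proj.fromOfGlobalSections_preimage_basicOpen _ _ _ one_pos (X_mem_one 1)]
  simp [φ]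

theorem ev_eq_zero_iff_of_toP1 {X : Scheme.{u}} (V : X.Opens) (b : Γ(X, V)) :
    ∃ g : V.toScheme ⟶ P1.{u}, ∀ x (hx : x ∈ V),
      ev x hx b = 0 ↔ g.base ⟨x, hx⟩ ∉ Proj.basicOpen (CohB1.polyGrading 1 RZ.{u}) (MvPolynomial.X 1) := by
  obtain ⟨g, hg⟩ := exists_toP1 (V.topIso.inv b)
  refine ⟨g, fun x hx => (X.evaluation_eq_zero_iff_notMem_basicOpen x hx b).trans (not_congr ?_)⟩
  refine Iff.trans ?_ ((SetLike.ext_iff.1 hg (⟨x, hx⟩ : V.toScheme)).symm.trans Iff.rfl)
  have h : V.ι ''ᵁ V.toScheme.basicOpen (V.topIso.inv b) = X.basicOpen b := by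
    simp [Scheme.Opens.topIso, Scheme.image_basicOpen]
    exact Scheme.basicOpen_res_eq _ _ _
  rw [← h]
  exact ⟨fun ⟨y, hy, e⟩ => by
    obtain rfl : y = ⟨x, hx⟩ := V.ι.isOpenEmbedding.injective e
    exact hy, fun hy => ⟨_, hy, rfl⟩⟩

/-- Points over `V` of the closure of a point on a graph over `V` lie on the graph. -/
theorem closure_point_subset {Y : Scheme.{u}} (V : Y.Opens) (g : V.toScheme ⟶ P1.{u})
    (w : V.ι ≫ specULiftZIsTerminal.from Y = g ≫ CohB1.ProjSpace.toSpec 1 (ULift.{u} ℤ)) (a : V.toScheme)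
    {y : ↥(pullback (specULiftZIsTerminal.from Y) (CohB1.ProjSpace.toSpec 1 (ULift.{u} ℤ)))}
    (hy : y ∈ closure {(pullback.lift V.ι g w).base a})
    (hV : (pullback.fst (specULiftZIsTerminal.from Y) (CohB1.ProjSpace.toSpec 1 (ULift.{u} ℤ))).base y ∈ V) :
    y = (pullback.lift V.ι g w).base ⟨_, hV⟩ := by
  haveI : IsProper (CohB1.ProjSpace.toSpec 1 (ULift.{u} ℤ)) := GrothLib.Chow.isProper_toSpec 1 _
  obtain ⟨r, hr⟩ := GrothLib.Nagata6.closure_graph_inter_subset (specULiftZIsTerminal.from Y)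
    (CohB1.ProjSpace.toSpec 1 (ULift.{u} ℤ)) V g w
    ⟨closure_mono (t := Set.range (fun x => pullback.lift V.ι g w x)) (Set.singleton_subset_iff.2 ⟨a, rfl⟩) hy, hV⟩
  have h : V.ι.base r = (pullback.fst (specULiftZIsTerminal.from Y) (CohB1.ProjSpace.toSpec 1 (ULift.{u} ℤ))).base y := by
    rw [← hr]
    show _ = (pullback.lift V.ι g w ≫ pullback.fst _ _).base r
    rw [pullback.lift_fst]
  exact hr.symm.trans (congrArg _ (V.ι.isOpenEmbedding.injective h))

variable {A : Type u} [CommRing A] {X Y : Scheme.{u}}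

/-- Proper schemes separating finitely many functions, after a proper modification. -/
theorem exists_separating [IrreducibleSpace Y] (ν : Y ⟶ X) {ι : Type*} (V : ι → X.Opens)
    (b : ∀ i, Γ(Y, ν ⁻¹ᵁ V i)) (s : Finset ι) :
    ∃ (Y' W : Scheme.{u}) (ρ : Y' ⟶ Y) (q : W ⟶ X) (π : Y' ⟶ W), IrreducibleSpace Y' ∧
      IsProper ρ ∧ Surjective ρ ∧ IsProper q ∧ π ≫ q = ρ ≫ ν ∧
        ∀ i ∈ s, ∀ y₁ y₂, π.base y₁ = π.base y₂ → ∀ h₁ h₂,
          (ev (ρ.base y₁) h₁ (b i) = 0 ↔ ev (ρ.base y₂) h₂ (b i) = 0) := by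
  classical
  induction s using Finset.induction_on with
  | empty => exact ⟨Y, X, 𝟙 Y, 𝟙 X, ν, ‹_›, inferInstance, inferInstance, inferInstance, by simp, by simp⟩
  | @insert i s _ ih =>
    obtain ⟨Y', W, ρ, q, π, hirr, hρ, hρs, hq, hπ, hsep⟩ := ih
    let V' : Y'.Opens := ρ ⁻¹ᵁ (ν ⁻¹ᵁ V i)
    by_cases hne : (V' : Set Y').Nonempty
    swap
    · refine ⟨Y', W, ρ, q, π, hirr, hρ, hρs, hq, hπ, fun j hj => ?_⟩
      rcases Finset.mem_insert.1 hj with rfl | hj
      · exact fun y₁ _ _ h₁ => (hne ⟨y₁, h₁⟩).elim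
      · exact hsep j hj
    haveI : IsProper (CohB1.ProjSpace.toSpec 1 (ULift.{u} ℤ)) := GrothLib.Chow.isProper_toSpec 1 _
    obtain ⟨g, hg⟩ := ev_eq_zero_iff_of_toP1 V' ((ρ.appLE (ν ⁻¹ᵁ V i) V' le_rfl).hom (b i))
    let tY := specULiftZIsTerminal.from Y'
    let tW := specULiftZIsTerminal.from W
    let tQ := CohB1.ProjSpace.toSpec 1 (ULift.{u} ℤ)
    have w : V'.ι ≫ tY = g ≫ tQ := specULiftZIsTerminal.hom_ext _ _
    have hη : genericPoint Y' ∈ V' :=
      ((genericPoint_spec Y').mem_open_set_iff V'.isOpen).2 (by simpa using hne)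
    let ξ := (pullback.lift V'.ι g w).base ⟨_, hη⟩
    obtain ⟨Z, j, _, hZirr, hZr⟩ := exists_irreducible_subscheme (X := pullback tY tQ)
      (W := closure {ξ}) isIrreducible_singleton.closure isClosed_closure
    let m : pullback tY tQ ⟶ pullback tW tQ :=
      pullback.map tY tQ tW tQ π (𝟙 _) (𝟙 _) (specULiftZIsTerminal.hom_ext _ _) (by simp)
    haveI : IsProper (pullback.fst tY tQ) := inferInstance
    haveI : IsProper (pullback.fst tW tQ) := inferInstance
    haveI hsurj : Surjective (j ≫ pullback.fst tY tQ) := by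
      refine ⟨Set.range_eq_univ.1 (Set.eq_univ_of_univ_subset ?_)⟩
      rw [← (genericPoint_spec Y').def]
      refine (j ≫ pullback.fst tY tQ).isClosedMap.isClosed_range.closure_subset_iff.2 ?_
      obtain ⟨z, hz⟩ := hZr.symm.subset (subset_closure (Set.mem_singleton ξ))
      rw [Set.singleton_subset_iff]
      refine ⟨z, ?_⟩
      show (pullback.fst tY tQ).base (j.base z) = _
      rw [hz]
      show (pullback.lift V'.ι g w ≫ pullback.fst _ _).base _ = _
      rw [pullback.lift_fst]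
      rfl
    refine ⟨Z, pullback tW tQ, (j ≫ pullback.fst tY tQ) ≫ ρ, pullback.fst tW tQ ≫ q, j ≫ m, hZirr,
      inferInstance, inferInstance, inferInstance, ?_, fun k hk y₁ y₂ he h₁ h₂ => ?_⟩
    · simp only [m, pullback.map, Category.assoc, pullback.lift_fst_assoc, hπ]
    · have hfst : π.base ((j ≫ pullback.fst tY tQ).base y₁) = π.base ((j ≫ pullback.fst tY tQ).base y₂) := by
        have h := congrArg (pullback.fst tW tQ).base he
        have e : (j ≫ m) ≫ pullback.fst tW tQ = (j ≫ pullback.fst tY tQ) ≫ π := by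
          simp only [m, pullback.map, Category.assoc, pullback.lift_fst]
        rw [← Scheme.Hom.comp_apply, ← Scheme.Hom.comp_apply, e] at h
        exact h
      rcases Finset.mem_insert.1 hk with rfl | hk
      · have hval : ∀ (y : Z) (h : (j ≫ pullback.fst tY tQ).base y ∈ V'),
            ev (ρ.base ((j ≫ pullback.fst tY tQ).base y)) h (b k) = 0 ↔
              (pullback.snd tW tQ).base ((j ≫ m).base y) ∉ Proj.basicOpen (CohB1.polyGrading 1 RZ.{u}) (MvPolynomial.X 1) := by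
          intro y h
          have hy : j.base y = (pullback.lift V'.ι g w).base ⟨_, h⟩ :=
            closure_point_subset V' g w _ (hZr.subset ⟨y, rfl⟩) h
          have e : (pullback.snd tW tQ).base ((j ≫ m).base y) = g.base ⟨_, h⟩ := by
            show (m ≫ pullback.snd tW tQ).base (j.base y) = _
            rw [hy]
            simp only [m, pullback.map, pullback.lift_snd, Category.comp_id]
            show (pullback.lift V'.ι g w ≫ pullback.snd _ _).base _ = _
            rw [pullback.lift_snd]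
          rw [e]
          exact (ev_comp_eq_zero_iff ρ (U := ν ⁻¹ᵁ V k) (V := V') le_rfl _ h (b k)).symm.trans (hg _ h)
        have h2 := (hval y₁ h₁)
        rw [he] at h2
        exact h2.trans (hval y₂ h₂).symm
      · exact hsep k hk _ _ hfst h₁ h₂

variable (f : X ⟶ Spec (CommRingCat.of A)) (I : Ideal A) [HenselianRing A I] [IsProper f]

theorem isConnected_Z0_integral [IrreducibleSpace Y] (ν : Y ⟶ X) [IsIntegralHom ν] :
    _root_.IsConnected (Z0 (ν ≫ f) I) := by
  classical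
  haveI : UniversallyClosed (ν ≫ f) := inferInstance
  have hne0 := inter_Z0_nonempty (ν ≫ f) I HenselianRing.jac isClosed_univ
    (IrreducibleSpace.isIrreducible_univ Y).nonempty
  rw [Set.univ_inter] at hne0
  refine ⟨hne0, isPreconnected_closed_iff.2 fun C C' hC hC' hsub hne hne' => ?_⟩
  by_contra hd
  have hZ := isClosed_Z0 (ν ≫ f) I
  have hCC : Disjoint (C ∩ Z0 (ν ≫ f) I) (C' ∩ Z0 (ν ≫ f) I) :=
    Set.disjoint_left.2 fun x hx hx' => hd ⟨x, hx.2, hx.1, hx'.1⟩
  haveI : CompactSpace X := QuasiCompact.compactSpace_of_compactSpace f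
  obtain ⟨t, ht⟩ := isCompact_univ.elim_finite_subcover (fun V : X.affineOpens => (V.1 : Set X))
    (fun V => V.1.isOpen) (fun x _ => by
      obtain ⟨V, hV, hxV, -⟩ := exists_isAffineOpen_mem_and_subset (x := x) (U := ⊤) trivial
      exact Set.mem_iUnion.2 ⟨⟨V, hV⟩, hxV⟩)
  choose b hb0 hb1 using fun i : t =>
    exists_sep (i.1.2.preimage ν) (hC.inter hZ) (hC'.inter hZ) hCC
  obtain ⟨Y', W, ρ, q, π, _, _, hρs, _, hπ, hsep⟩ := exists_separating ν (fun i : t => i.1.1) b Finset.univ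
  haveI : UniversallyClosed (π ≫ q) := hπ ▸ inferInstance
  haveI : UniversallyClosed π := UniversallyClosed.of_comp_of_isSeparated π q
  have hconn := isConnected_inter (q ≫ f) I (W := Set.range π.base)
    (by rw [← Set.image_univ]; exact (IrreducibleSpace.isIrreducible_univ Y').image _ π.continuous.continuousOn)
    π.isClosedMap.isClosed_range
  have hz : ∀ y, π.base y ∈ Z0 (q ≫ f) I ↔ ρ.base y ∈ Z0 (ν ≫ f) I := fun y => by
    have : Z0 (π ≫ q ≫ f) I = Z0 (ρ ≫ ν ≫ f) I := by rw [← Category.assoc, hπ, Category.assoc]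
    exact Set.ext_iff.1 this y
  let D : Set W := π.base '' (ρ.base ⁻¹' (C ∩ Z0 (ν ≫ f) I))
  let D' : Set W := π.base '' (ρ.base ⁻¹' (C' ∩ Z0 (ν ≫ f) I))
  have hD : IsClosed D := π.isClosedMap _ ((hC.inter hZ).preimage ρ.continuous)
  have hD' : IsClosed D' := π.isClosedMap _ ((hC'.inter hZ).preimage ρ.continuous)
  have hcov : Set.range π.base ∩ Z0 (q ≫ f) I ⊆ D ∪ D' := by
    rintro _ ⟨⟨y, rfl⟩, hy⟩
    rcases hsub ((hz y).1 hy) with h | h
    · exact Or.inl ⟨y, ⟨h, (hz y).1 hy⟩, rfl⟩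
    · exact Or.inr ⟨y, ⟨h, (hz y).1 hy⟩, rfl⟩
  obtain ⟨x, hxZ, hxC⟩ := hne
  obtain ⟨x', hx'Z, hx'C⟩ := hne'
  obtain ⟨y, rfl⟩ := ρ.surjective x
  obtain ⟨y', rfl⟩ := ρ.surjective x'
  obtain ⟨w, -, ⟨y₁, hy₁, e₁⟩, y₂, hy₂, e₂⟩ := isPreconnected_closed_iff.1 hconn.isPreconnected D D' hD hD' hcov
    ⟨π.base y, ⟨⟨y, rfl⟩, (hz y).2 hxZ⟩, y, ⟨hxC, hxZ⟩, rfl⟩
    ⟨π.base y', ⟨⟨y', rfl⟩, (hz y').2 hx'Z⟩, y', ⟨hx'C, hx'Z⟩, rfl⟩
  obtain ⟨V, hV, hxV⟩ := Set.mem_iUnion₂.1 (ht (Set.mem_univ (ν.base (ρ.base y₁))))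
  have hx₂ : ν.base (ρ.base y₂) ∈ V.1 := by
    have e : ν.base (ρ.base y₂) = ν.base (ρ.base y₁) := by
      show (ρ ≫ ν).base y₂ = (ρ ≫ ν).base y₁
      rw [← hπ]
      exact congrArg q.base (e₂.trans e₁.symm)
    rw [e]; exact hxV
  have h := (hsep ⟨V, hV⟩ (Finset.mem_univ _) y₁ y₂ (e₁.trans e₂.symm) hxV hx₂).1 (hb0 _ _ hxV hy₁)
  exact one_ne_zero ((hb1 ⟨V, hV⟩ _ hx₂ hy₂).symm.trans h)

end GrothLib.PropH0
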