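import Groth.Agent.Lib.PropH0.EtRestrict
import Groth.Agent.Lib.PropH0.Integral
import Groth.Agent.Lib.EtSec.Global
import Groth.Agent.Lib.EtSec.AbCompare

/-!
# Global sections of an etale sheaf on a scheme proper over a henselian pair
-/

set_option autoImplicit false
universe u

open CategoryTheory CategoryTheory.Limits AlgebraicGeometry Opposite TopologicalSpace
open GrothLib.EtSite GrothLib.EtSec

set_option backward.isDefEq.respectTransparency.types false

noncomputable section

namespace GrothLib.PropH0

theorem bijective_of_eq {α β : Sort*} {f g : α → β} (hg : Function.Bijective g) (h : ∀ x, f x = g x) :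
    Function.Bijective f :=
  funext h ▸ hg

variable {X Z : Scheme.{u}} (i : Z ⟶ X)

/-- Restriction of global relative sections to the first projection of the top scheme. -/
theorem res_fst_top_bijective [IsClosedImmersion i] [CompactSpace X] [QuasiSeparatedSpace X]
    (hi : ConnOnIntegral i) (F : EtDesc.Sh X) :
    Function.Bijective (fun σ : Secs (EtCoh.top X).hom F =>
      σ.res (pullback.fst (EtCoh.top X).hom i) (bc_cond i (EtCoh.top X))) := by
  let p : pullback (𝟙 X) i ⟶ Z := pullback.snd (𝟙 X) i
  have hp : pullback.fst (𝟙 X) i = p ≫ i := (Category.comp_id _).symm.trans pullback.condition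
  have h₁ : (pullback.fst (EtCoh.top X).hom i) ≫ (𝟙 X) = p ≫ i := pullback.condition
  let q : Z ⟶ pullback (𝟙 X) i := pullback.lift i (𝟙 Z) (by simp)
  have hqp : q ≫ p = 𝟙 Z := pullback.lift_snd _ _ _
  have hpq : p ≫ q = 𝟙 _ := by
    apply pullback.hom_ext
    · rw [Category.assoc, pullback.lift_fst, Category.id_comp, hp]
    · rw [Category.assoc, pullback.lift_snd, Category.id_comp]; exact Category.comp_id _
  have hb : Function.Bijective (fun σ : Secs i F => σ.res p (rfl : p ≫ i = p ≫ i)) := by
    refine Function.bijective_iff_has_inverse.2 ⟨fun σ => σ.res q (by rw [← Category.assoc, hqp, Category.id_comp]),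
      fun σ => ?_, fun σ => ?_⟩
    · simp only [Secs.res_comp]
      exact (Secs.res_congr hqp _ (Category.id_comp i) σ).trans σ.res_id
    · simp only [Secs.res_comp]
      exact (Secs.res_congr hpq _ (Category.id_comp _) σ).trans σ.res_id
  have h := hb.comp (restrict_bijective i hi (F := F))
  refine bijective_of_eq h fun σ => ?_
  exact (Secs.res_congr (b' := p ≫ i) hp _ ((Category.assoc p i _).trans (congrArg (p ≫ ·) (Category.comp_id i))) σ).trans
    (Secs.res_comp i (Category.comp_id i) p rfl σ).symm

/-- The unit is bijective on global sections. -/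
theorem unitSh_top_bijective [IsClosedImmersion i] [CompactSpace X] [QuasiSeparatedSpace X]
    (hi : ConnOnIntegral i) (F : EtDesc.Sh X) :
    Function.Bijective (((EtDesc.adjSh i).unit.app F).hom.app (op (EtCoh.top X))) := by
  refine (Function.Bijective.of_comp_iff' (toSecs_bijective i F ((EtCoh.bc i).obj (EtCoh.top X))) _).1 ?_
  have h := (res_fst_top_bijective i hi F).comp (secOf_bijective F (EtCoh.top X))
  refine bijective_of_eq h fun t => ?_
  exact (toSecs_unit i F t).trans (ofSect_eq F _ _ t)

/-- The unit is bijective on global sections of abelian sheaves. -/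
theorem unit_top_bijective [IsClosedImmersion i] [CompactSpace X] [QuasiSeparatedSpace X]
    (hi : ConnOnIntegral i) (F : EtCoh.Ab X) :
    Function.Bijective (((EtCoh.pullPushAdj i).unit.app F).hom.app (op (EtCoh.top X))) := by
  refine (Function.Bijective.of_comp_iff' (toSecsAb_bijective i F ((EtCoh.bc i).obj (EtCoh.top X))) _).1 ?_
  have h := (res_fst_top_bijective i hi (forgetSh F)).comp (secOf_bijective (forgetSh F) (EtCoh.top X))
  refine bijective_of_eq h fun t => ?_
  exact (toSecsAb_unit i F t).trans (ofSect_eq (forgetSh F) _ _ t)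

variable {A : Type u} [CommRing A] (I : Ideal A) [HenselianRing A I]

/-- Schemes proper over a henselian pair: the preimage of the closed fibre is connected. -/
theorem connOnIntegral_of_proper (f : X ⟶ Spec (CommRingCat.of A)) [IsProper f]
    (hr : Set.range i.base = Z0 f I) : ConnOnIntegral i := by
  intro Y ν _ _
  rw [hr]
  exact isConnected_Z0_integral f I ν

theorem compactSpace_of_proper (f : X ⟶ Spec (CommRingCat.of A)) [IsProper f] :
    CompactSpace X ∧ QuasiSeparatedSpace X :=
  ⟨QuasiCompact.compactSpace_of_compactSpace f, quasiSeparatedSpace_of_quasiSeparated f⟩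

theorem range_specMap_quotient :
    Set.range (Spec.map (CommRingCat.ofHom (Ideal.Quotient.mk I))).base =
      Z0 (𝟙 (Spec (CommRingCat.of A))) I := by
  refine (range_comap_of_surjective (A ⧸ I) (Ideal.Quotient.mk I) Ideal.Quotient.mk_surjective).trans ?_
  rw [Ideal.mk_ker]
  rfl

end GrothLib.PropH0
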