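import Groth.Agent.Lib.PropH0.EtBCKey
import Groth.Agent.Lib.EtSec.Criterion

/-!
# Proper base change in degree zero
-/

set_option autoImplicit false
universe u

open CategoryTheory CategoryTheory.Limits AlgebraicGeometry Opposite TopologicalSpace
open GrothLib.EtSite GrothLib.EtSec

set_option backward.isDefEq.respectTransparency.types false

noncomputable section

namespace GrothLib.PropH0

variable {X S T : Scheme.{u}}

/-- Every geometric point has a strict localization with separably closed residue field. -/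
theorem exists_proNbhd_sh {Ω : Type u} [Field Ω] [IsSepClosed Ω] (η : Spec (CommRingCat.of Ω) ⟶ S) :
    ∃ (N : ProNbhd η) (H : Type u) (_ : CommRing H) (_ : HenselianLocalRing H)
      (_ : IsSepClosed (IsLocalRing.ResidueField H)) (e : Spec (CommRingCat.of H) ≅ N.c.pt),
      (N.pt ≫ e.inv).base default = IsLocalRing.closedPoint H := by
  obtain ⟨⟨s, ψ⟩, rfl⟩ := (S.SpecToEquivOfField Ω).symm.surjective η
  letI : Algebra (S.residueField s) Ω := ψ.hom.toAlgebra
  obtain ⟨N, -, H, hH₁, hH₂, _, _, hH, e, -, hp⟩ :=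
    exists_proNbhd s Ω ((S.SpecToEquivOfField Ω).symm ⟨s, ψ⟩) rfl
  letI := hH₁
  letI := hH₂
  haveI := hH.henselian
  haveI := hH.isSepClosure
  exact ⟨N, H, hH₁, hH.henselian, IsSepClosure.sep_closed (IsLocalRing.ResidueField (S.presheaf.stalk s)), e, hp⟩

variable (g : T ⟶ S) [IsProper g] (f : X ⟶ S) {F : EtDesc.Sh T}

/-- The stalk hypothesis of base change holds for proper maps, at every geometric point. -/
theorem keyData_of_proper {Ω : Type u} [Field Ω] [IsSepClosed Ω] (ξ : Spec (CommRingCat.of Ω) ⟶ X) :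
    KeyData g f F ξ := by
  obtain ⟨NS, H, _, _, _, e, he⟩ := exists_proNbhd_sh (ξ ≫ f)
  obtain ⟨NX, -⟩ := exists_proNbhd_sh ξ
  constructor
  · intro W l hl s s' U q hq m m' hm hm' hqm hqm' h
    obtain ⟨j, n, hn, hnp⟩ := NS.initial W.left W.hom W.prop l hl
    let ν : NS.c.pt ⟶ W.left := NS.c.π.app j ≫ n
    have hν : ν ≫ W.hom = NS.bc := by rw [Category.assoc, hn, NS.hbc]
    have hqS : q ≫ U.hom ≫ f = ξ ≫ f := (Category.assoc q U.hom f).symm.trans (congrArg (· ≫ f) hq)
    have hl' : resT g l hl s = resT g l hl s' := by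
      have h' := congrArg (fun t => resT g q hqS t) h
      exact ((resT_congr g hqm.symm _ _ s).trans (resT_resT g q hqS m hm s).symm).trans (h'.trans
        ((resT_resT g q hqS m' hm' s').trans (resT_congr g hqm' _ _ s')))
    have hν' : resT g ν hν s = resT g ν hν s' :=
      resT_pt_injective g NS NS.hpt ((resT_resT g _ NS.hpt ν hν s).trans ((resT_congr g hnp _ hl s).trans
        (hl'.trans ((resT_congr g hnp.symm _ _ s').trans (resT_resT g _ NS.hpt ν hν s').symm))))
    obtain ⟨j', φ, hφ⟩ := NS.exists_stage_eq g (i := j) (resT g n hn s) (resT g n hn s')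
      ((resT_resT g _ _ n hn s).trans (hν'.trans (resT_resT g _ _ n hn s').symm))
    haveI := NS.etale j'
    let W' : S.Etale := Scheme.Etale.mk (NS.b j')
    let r : W' ⟶ W := MorphismProperty.Over.homMk (NS.D.map φ ≫ n)
      ((Category.assoc _ _ _).trans ((congrArg (NS.D.map φ ≫ ·) hn).trans (NS.hb φ)))
    refine ⟨W', r, NS.pt ≫ NS.c.π.app j', ?_, ?_, ?_⟩
    · exact (Category.assoc _ _ _).trans ((congrArg (NS.pt ≫ ·) (NS.hbc j')).trans NS.hpt)
    · refine Eq.trans ?_ hnp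
      exact (Category.assoc _ _ _).trans (congrArg (NS.pt ≫ ·)
        ((Category.assoc _ _ _).symm.trans (congrArg (· ≫ n) (NS.c.w φ))))
    · exact (resT_resT g _ _ n hn s).symm.trans (hφ.trans (resT_resT g _ _ n hn s'))
  · intro U q hq σ
    have hqS : q ≫ U.hom ≫ f = ξ ≫ f := (Category.assoc q U.hom f).symm.trans (congrArg (· ≫ f) hq)
    obtain ⟨τ, hτ⟩ := (resT_pt_bijective g NS H e he).2 (resT g q hqS σ)
    obtain ⟨j, s, hs⟩ := NS.exists_stage g τ
    haveI := NS.etale j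
    let W : S.Etale := Scheme.Etale.mk (NS.b j)
    let l : Spec (CommRingCat.of Ω) ⟶ W.left := NS.pt ≫ NS.c.π.app j
    have hl : l ≫ NS.b j = ξ ≫ f :=
      (Category.assoc _ _ _).trans ((congrArg (NS.pt ≫ ·) (NS.hbc j)).trans NS.hpt)
    let uh : U.left ⟶ X := U.hom
    haveI : Etale uh := U.prop
    let P := pullback (uh ≫ f) (NS.b j)
    haveI : Etale (pullback.fst (uh ≫ f) (NS.b j)) := MorphismProperty.pullback_fst _ _ (NS.etale j)
    let p : Spec (CommRingCat.of Ω) ⟶ P := pullback.lift q l (hqS.trans hl.symm)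
    obtain ⟨i, v, hv, hvp⟩ := NX.initial P (pullback.fst (uh ≫ f) (NS.b j) ≫ uh) inferInstance p
      ((pullback.lift_fst_assoc _ _ _ _).trans hq)
    let v₁ : NX.D.obj i ⟶ U.left := v ≫ pullback.fst (uh ≫ f) (NS.b j)
    let v₂ : NX.D.obj i ⟶ W.left := v ≫ pullback.snd (uh ≫ f) (NS.b j)
    have hv₁ : v₁ ≫ uh = NX.b i := (Category.assoc _ _ _).trans hv
    have hv₁f : v₁ ≫ U.hom ≫ f = NX.b i ≫ f :=
      (Category.assoc v₁ uh f).symm.trans (congrArg (· ≫ f) hv₁)
    have hv₂ : v₂ ≫ NS.b j = NX.b i ≫ f := by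
      refine Eq.trans ?_ hv₁f
      show (v ≫ _) ≫ _ = (v ≫ _) ≫ uh ≫ f
      rw [Category.assoc, Category.assoc, pullback.condition]; rfl
    have hq₁ : NX.pt ≫ NX.c.π.app i ≫ v₁ = q :=
      ((congrArg (NX.pt ≫ ·) (Category.assoc _ _ _).symm).trans (Category.assoc _ _ _).symm).trans
        ((congrArg (· ≫ pullback.fst (uh ≫ f) (NS.b j)) hvp).trans (pullback.lift_fst _ _ _))
    have hq₂ : NX.pt ≫ NX.c.π.app i ≫ v₂ = l :=
      ((congrArg (NX.pt ≫ ·) (Category.assoc _ _ _).symm).trans (Category.assoc _ _ _).symm).trans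
        ((congrArg (· ≫ pullback.snd (uh ≫ f) (NS.b j)) hvp).trans (pullback.lift_snd _ _ _))
    have hσs : resT g l hl s = resT g q hqS σ := by
      rw [← hτ, ← hs]
      exact ((resT_resT g _ NS.hpt _ (NS.hbc j) s)).symm
    have hz : NX.c.π.app i ≫ NX.b i ≫ f = NX.bc ≫ f := by rw [← Category.assoc, NX.hbc]
    have hzp : NX.pt ≫ NX.bc ≫ f = ξ ≫ f := by rw [← Category.assoc, NX.hpt]
    obtain ⟨k, φ, hφ⟩ := NX.exists_stage_eq_comp f g (i := i) (resT g v₁ hv₁f σ) (resT g v₂ hv₂ s) (by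
      refine resT_pt_injective g NX hzp ?_
      exact ((congrArg (resT g NX.pt hzp) (resT_resT g (NX.c.π.app i) hz v₁ hv₁f σ)).trans
        ((resT_resT g NX.pt hzp _ _ σ).trans (resT_congr g hq₁ _ hqS σ))).trans (hσs.symm.trans
        (((congrArg (resT g NX.pt hzp) (resT_resT g (NX.c.π.app i) hz v₂ hv₂ s)).trans
          ((resT_resT g NX.pt hzp _ _ s).trans (resT_congr g hq₂ _ hl s))).symm)))
    haveI := NX.etale k
    let U' : X.Etale := Scheme.Etale.mk (NX.b k)
    let r : U' ⟶ U := MorphismProperty.Over.homMk (NX.D.map φ ≫ v₁)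
      ((Category.assoc _ _ _).trans ((congrArg (NX.D.map φ ≫ ·) hv₁).trans (NX.hb φ)))
    refine ⟨W, l, hl, s, U', r, NX.D.map φ ≫ v₂, ?_, NX.pt ≫ NX.c.π.app k, ?_, ?_, ?_, ?_⟩
    · show (NX.D.map φ ≫ v₂) ≫ NS.b j = NX.b k ≫ f
      rw [Category.assoc, hv₂, ← Category.assoc, NX.hb]
    · exact (Category.assoc _ _ _).trans ((congrArg (NX.pt ≫ ·) (NX.hbc k)).trans NX.hpt)
    · show (NX.pt ≫ NX.c.π.app k) ≫ NX.D.map φ ≫ v₁ = q
      rw [← hq₁, Category.assoc, ← Category.assoc (NX.c.π.app k), NX.c.w]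
    · show (NX.pt ≫ NX.c.π.app k) ≫ NX.D.map φ ≫ v₂ = l
      rw [← hq₂, Category.assoc, ← Category.assoc (NX.c.π.app k), NX.c.w]
    · exact (resT_resT g _ _ _ _ σ).symm.trans (hφ.trans (resT_resT g _ _ _ _ s))

/-- Proper base change for sheaves of sets. -/
theorem isIso_baseChange0Sh_of_proper {Y : Scheme.{u}} (h : Y ⟶ X) (e : Y ⟶ T) (hsq : IsPullback e h g f)
    (F : EtDesc.Sh T) : IsIso (EtBC.baseChange0Sh g f h e hsq.w F) :=
  isIso_of_stalksSh _ fun x => ⟨_, inferInstance, inferInstance, gpt x, gpt_default x,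
    baseChange0Sh_stalk_bijective g f h e hsq F (keyData_of_proper g f _)⟩

/-- Proper base change in degree zero for abelian sheaves. -/
theorem isIso_baseChange0_of_proper {Y : Scheme.{u}} (h : Y ⟶ X) (e : Y ⟶ T) (hsq : IsPullback e h g f)
    (F : EtCoh.Ab T) : IsIso (EtCoh.baseChange0 g f h e hsq.w F) := by
  haveI : IsIso ((sheafCompose X.smallEtaleTopology (forget AddCommGrpCat.{u + 1})).map
      (EtCoh.baseChange0 g f h e hsq.w F)) := isIso_of_stalksSh _ fun x =>
    ⟨_, inferInstance, inferInstance, gpt x, gpt_default x,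
      baseChange0_stalk_bijective g f h e hsq F (keyData_of_proper g f _)⟩
  exact isIso_of_reflects_iso (EtCoh.baseChange0 g f h e hsq.w F)
    (sheafCompose X.smallEtaleTopology (forget AddCommGrpCat.{u + 1}))

end GrothLib.PropH0
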