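import Groth.Agent.Lib.EtSec.AbCompare
import Groth.Agent.Lib.EtSec.Global
import Groth.Prelude.Def_EtCore

/-!
# Global sections over a separably closed point
-/

set_option autoImplicit false
universe u

open CategoryTheory CategoryTheory.Limits AlgebraicGeometry Opposite
open GrothLib.EtSite GrothLib.EtSec

set_option backward.isDefEq.respectTransparency.types false

noncomputable section

namespace GrothLib.PropH0

variable {Ω : Type u} [Field Ω] [IsSepClosed Ω]

theorem gSh_top_bijective (G : EtDesc.Sh (Spec (CommRingCat.of Ω))) :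
    Function.Bijective (fun t : EtDesc.sect G (EtCoh.top _) =>
      gSh G (η := 𝟙 (Spec (CommRingCat.of Ω))) (W := EtCoh.top _) (𝟙 (Spec (CommRingCat.of Ω))) (Category.id_comp _) t) := by
  constructor
  · intro t t' h
    refine secOf_injective G _ (Secs.eq_of_eqLocus _ _ fun x => ?_)
    rw [Subsingleton.elim (α := Spec (CommRingCat.of Ω)) x ((𝟙 (Spec (CommRingCat.of Ω)) : Spec (CommRingCat.of Ω) ⟶ Spec (CommRingCat.of Ω)).base default)]
    refine (Secs.mem_eqLocus_iff _ _ (𝟙 (Spec (CommRingCat.of Ω))) (𝟙 _) (Category.id_comp _)).2 ?_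
    exact (secOf_val G t Ω _ _ _).trans (h.trans (secOf_val G t' Ω _ _ _).symm)
  · intro y
    obtain ⟨W, l, hl, t, rfl⟩ := exists_gSh y
    let r : EtCoh.top (Spec (CommRingCat.of Ω)) ⟶ W := MorphismProperty.Over.homMk l hl
    exact ⟨G.obj.map r.op t, (gSh_map r (𝟙 _) (Category.id_comp _)
      ((congrArg (· ≫ W.hom) (Category.id_comp l)).trans hl) t).trans (gSh_congr (Category.id_comp l) _ _ t)⟩

theorem germ_top_bijective (G : EtCoh.Ab (Spec (CommRingCat.of Ω))) :
    Function.Bijective (germ (𝟙 (Spec (CommRingCat.of Ω))) G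
      (fib (U := EtCoh.top _) (𝟙 _) (𝟙 _) (Category.id_comp _))) := by
  have h := (stalkForget_bijective (𝟙 (Spec (CommRingCat.of Ω))) G).comp (gSh_top_bijective (forgetSh G))
  have e : ∀ t : G.obj.obj (op (EtCoh.top (Spec (CommRingCat.of Ω)))),
      (germ (𝟙 (Spec (CommRingCat.of Ω))) G (fib (U := EtCoh.top _) (𝟙 _) (𝟙 _) (Category.id_comp _))) t =
        stalkForget (𝟙 (Spec (CommRingCat.of Ω))) G (gSh (forgetSh G) (η := 𝟙 (Spec (CommRingCat.of Ω)))
          (W := EtCoh.top _) (𝟙 (Spec (CommRingCat.of Ω))) (Category.id_comp _) t) := fun t => by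
    exact (stalkForget_gSh (𝟙 (Spec (CommRingCat.of Ω))) G (𝟙 _) (Category.id_comp _) t).symm
  exact ⟨fun a b hab => h.1 ((e a).symm.trans (hab.trans (e b))), fun y => by
    obtain ⟨t, ht⟩ := h.2 y; exact ⟨t, (e t).trans ht⟩⟩

/-- The base change of the top scheme is the top scheme. -/
def bcTopIso {X Y : Scheme.{u}} (f : X ⟶ Y) : (EtCoh.bc f).obj (EtCoh.top Y) ≅ EtCoh.top X :=
  have hiso : IsIso (pullback.snd (𝟙 Y) f) :=
    ⟨pullback.lift f (𝟙 X) ((Category.comp_id f).trans (Category.id_comp f).symm), pullback.hom_ext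
      ((Category.assoc _ _ _).trans ((congrArg (_ ≫ ·) (pullback.lift_fst _ _ _)).trans
        ((pullback.condition (f := 𝟙 Y) (g := f)).symm.trans
          ((Category.comp_id _).trans (Category.id_comp _).symm))))
      ((Category.assoc _ _ _).trans ((congrArg (_ ≫ ·) (pullback.lift_snd _ _ _)).trans
        ((Category.comp_id _).trans (Category.id_comp _).symm))),
      pullback.lift_snd _ _ _⟩
  MorphismProperty.Over.isoMk (@asIso _ _ _ _ (pullback.snd (𝟙 Y) f) hiso) (Category.comp_id _)

/-- Global sections of a direct image. -/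
def pushTopIso {X Y : Scheme.{u}} (f : X ⟶ Y) (H : EtCoh.Ab X) :
    ((EtCoh.push f).obj H).obj.obj (op (EtCoh.top Y)) ≅ H.obj.obj (op (EtCoh.top X)) :=
  H.obj.mapIso (bcTopIso f).op.symm

end GrothLib.PropH0
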