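import Mathlib.Topology.Sheaves.Functors
import Mathlib.Topology.Sheaves.LocallySurjective
import Mathlib.Topology.Sheaves.Stalks
import Mathlib.CategoryTheory.Sites.LocallyInjective

/-!
# Stalks of the unit of pullback and pushforward for sheaves of sets on spaces
-/

set_option autoImplicit false
set_option backward.isDefEq.respectTransparency false
universe u

open CategoryTheory Limits Opposite TopologicalSpace TopCat

namespace GrothLib.PropH0

variable {X Y : TopCat.{u}}

theorem bijective_stalk_toSheafify (P : TopCat.Presheaf (Type u) Y) (y : Y) :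
    Function.Bijective ((TopCat.Presheaf.stalkFunctor (Type u) y).map
      (CategoryTheory.toSheafify (Opens.grothendieckTopology Y) P)) := by
  constructor
  · intro a b h
    obtain ⟨U, hU, s, rfl⟩ := P.germ_exist a
    obtain ⟨V, hV, t, rfl⟩ := P.germ_exist b
    rw [TopCat.Presheaf.stalkFunctor_map_germ_apply, TopCat.Presheaf.stalkFunctor_map_germ_apply] at h
    obtain ⟨W, hW, iU, iV, e⟩ := TopCat.Presheaf.germ_eq _ y hU hV _ _ h
    rw [← NatTrans.naturality_apply, ← NatTrans.naturality_apply] at e
    obtain ⟨W', i, hi, hy'⟩ :=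
      Presheaf.equalizerSieve_mem (Opens.grothendieckTopology Y)
        (CategoryTheory.toSheafify (Opens.grothendieckTopology Y) P) _ _ e y hW
    rw [← TopCat.Presheaf.germ_res_apply P iU y hW s, ← TopCat.Presheaf.germ_res_apply P iV y hW t,
      ← TopCat.Presheaf.germ_res_apply P i y hy' (P.map iU.op s), ← TopCat.Presheaf.germ_res_apply P i y hy' (P.map iV.op t)]
    exact congrArg (P.germ W' y hy') hi
  · have h : TopCat.Presheaf.IsLocallySurjective (CategoryTheory.toSheafify (Opens.grothendieckTopology Y) P) :=
      (inferInstance : Presheaf.IsLocallySurjective (Opens.grothendieckTopology Y)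
        (CategoryTheory.toSheafify (Opens.grothendieckTopology Y) P))
    exact (TopCat.Presheaf.locally_surjective_iff_surjective_on_stalks _).1 h y

variable (f : Y ⟶ X)

/-- The map on stalks given by the unit. -/
noncomputable def unitStalk (F : TopCat.Sheaf (Type u) X) (y : Y) :
    F.presheaf.stalk (f y) ⟶ ((TopCat.Sheaf.pullback (Type u) f).obj F).presheaf.stalk y :=
  (TopCat.Presheaf.stalkFunctor (Type u) (f y)).map
      ((TopCat.Sheaf.pullbackPushforwardAdjunction (Type u) f).unit.app F).hom ≫
    TopCat.Presheaf.stalkPushforward (Type u) f _ y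

theorem unitStalk_germ (F : TopCat.Sheaf (Type u) X) (y : Y) (U : Opens X) (hU : f y ∈ U)
    (t : F.obj.obj (op U)) :
    unitStalk f F y (F.presheaf.germ U (f y) hU t) =
      ((TopCat.Sheaf.pullback (Type u) f).obj F).presheaf.germ ((Opens.map f).obj U) y hU
        (((TopCat.Sheaf.pullbackPushforwardAdjunction (Type u) f).unit.app F).hom.app (op U) t) := by
  refine (congrArg (TopCat.Presheaf.stalkPushforward (Type u) f _ y)
    (TopCat.Presheaf.stalkFunctor_map_germ_apply U (f y) hU
      ((TopCat.Sheaf.pullbackPushforwardAdjunction (Type u) f).unit.app F).hom t)).trans ?_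
  exact ConcreteCategory.congr_hom (TopCat.Presheaf.stalkPushforward_germ (Type u) f _ U y hU) _

/-- The concrete adjunction. -/
noncomputable def adjC : Functor.sheafPullbackConstruction.sheafPullback (Opens.map f) (Type u)
    (Opens.grothendieckTopology X) (Opens.grothendieckTopology Y) ⊣ TopCat.Sheaf.pushforward (Type u) f :=
  Functor.sheafPullbackConstruction.sheafAdjunctionContinuous _ _ _ _

theorem bijective_unitStalk (F : TopCat.Sheaf (Type u) X) (y : Y) :
    Function.Bijective (unitStalk f F y) := by
  let adj := TopCat.Sheaf.pullbackPushforwardAdjunction (Type u) f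
  let e := ((adjC f).leftAdjointUniq adj).app F
  let P : TopCat.Presheaf (Type u) Y := (TopCat.Presheaf.pullback (Type u) f).obj F.obj
  have hη : (adjC f).unit.app F ≫ (TopCat.Sheaf.pushforward (Type u) f).map e.hom = adj.unit.app F :=
    Adjunction.unit_leftAdjointUniq_hom_app _ _ F
  have key : unitStalk f F y = TopCat.Presheaf.stalkPullbackHom (Type u) f F.obj y ≫
      (TopCat.Presheaf.stalkFunctor (Type u) y).map
        (CategoryTheory.toSheafify (Opens.grothendieckTopology Y) P) ≫
      (TopCat.Presheaf.stalkFunctor (Type u) y).map e.hom.hom := by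
    refine TopCat.Presheaf.stalk_hom_ext _ fun U hU => ConcreteCategory.hom_ext _ _ fun t => ?_
    show unitStalk f F y (F.presheaf.germ U (f y) hU t) =
      (TopCat.Presheaf.stalkFunctor (Type u) y).map e.hom.hom
        ((TopCat.Presheaf.stalkFunctor (Type u) y).map
          (CategoryTheory.toSheafify (Opens.grothendieckTopology Y) P)
          ((F.presheaf.germ U (f y) hU ≫ TopCat.Presheaf.stalkPullbackHom (Type u) f F.obj y) t))
    rw [TopCat.Presheaf.germ_stalkPullbackHom, unitStalk_germ, ConcreteCategory.comp_apply]
    erw [TopCat.Presheaf.stalkFunctor_map_germ_apply, TopCat.Presheaf.stalkFunctor_map_germ_apply]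
    refine congrArg _ ?_
    rw [← hη]
    rfl
  rw [key]
  haveI : IsIso ((TopCat.Presheaf.stalkFunctor (Type u) y).map
        (CategoryTheory.toSheafify (Opens.grothendieckTopology Y) P)) :=
    (isIso_iff_bijective _).2 (bijective_stalk_toSheafify P y)
  haveI : IsIso (TopCat.Presheaf.stalkPullbackHom (Type u) f F.obj y) :=
    (TopCat.Presheaf.stalkPullbackIso (Type u) f F.obj y).isIso_hom
  haveI : IsIso e.hom.hom := (sheafToPresheaf (Opens.grothendieckTopology Y) (Type u)).map_isIso e.hom
  exact (isIso_iff_bijective _).1 inferInstance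

end GrothLib.PropH0
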