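import Groth.Agent.Lib.PropH0.Noeth
import Mathlib.AlgebraicGeometry.IdealSheaf.Subscheme

/-!
# Closed subsets meeting the closed fibre
-/

set_option autoImplicit false
universe u

open CategoryTheory CategoryTheory.Limits AlgebraicGeometry Opposite TopologicalSpace

namespace GrothLib.PropH0

variable {A : Type u} [CommRing A] {X : Scheme.{u}} (f : X ⟶ Spec (CommRingCat.of A)) (I : Ideal A)

theorem inter_Z0_nonempty [UniversallyClosed f] (hI : I ≤ Ideal.jacobson ⊥) {S : Set X}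
    (hS : IsClosed S) (hne : S.Nonempty) : (S ∩ Z0 f I).Nonempty := by
  obtain ⟨x, hx⟩ := hne
  have hcl : IsClosed (X := PrimeSpectrum A) (f.base '' S) := f.isClosedMap _ hS
  obtain ⟨M, hM, hle⟩ := Ideal.exists_le_maximal _ (f.base x : PrimeSpectrum A).isPrime.ne_top
  obtain ⟨y, hy, hyM⟩ := ((PrimeSpectrum.le_iff_specializes (f.base x) ⟨M, hM.isPrime⟩).1 hle).mem_closed hcl
    ⟨x, hx, rfl⟩
  refine ⟨y, hy, fun a ha => ?_⟩
  show a ∈ (f.base y : PrimeSpectrum A).asIdeal
  rw [show (f.base y : PrimeSpectrum A) = ⟨M, hM.isPrime⟩ from hyM]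
  exact (hI.trans (sInf_le ⟨bot_le, hM⟩)) ha

theorem eq_of_inter_Z0_eq [UniversallyClosed f] (hI : I ≤ Ideal.jacobson ⊥) {U U' : Set X}
    (hU : IsClopen U) (hU' : IsClopen U') (h : U ∩ Z0 f I = U' ∩ Z0 f I) : U = U' := by
  have key : ∀ {S T : Set X}, IsClopen S → IsClopen T → S ∩ Z0 f I = T ∩ Z0 f I → S ⊆ T := by
    intro S T hS hT e x hx
    by_contra hxT
    obtain ⟨y, ⟨hy, hyT⟩, hyZ⟩ := inter_Z0_nonempty f I hI (hS.1.inter hT.2.isClosed_compl) ⟨x, hx, hxT⟩
    exact hyT (e.subset ⟨hy, hyZ⟩).1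
  exact (key hU hU' h).antisymm (key hU' hU h.symm)

theorem isConnected_Z0_noeth [IsNoetherianRing A] [HenselianRing A I] [IsProper f]
    [IrreducibleSpace X] : _root_.IsConnected (Z0 f I) := by
  refine ⟨?_, isPreconnected_closed_iff.2 fun C C' hC hC' hsub hne hne' => ?_⟩
  · simpa only [Set.univ_inter] using inter_Z0_nonempty f I HenselianRing.jac isClosed_univ
      (IrreducibleSpace.isIrreducible_univ X).nonempty
  · by_contra hd
    have hZ := isClosed_Z0 f I
    have hd' : Disjoint (C ∩ Z0 f I) (C' ∩ Z0 f I) :=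
      Set.disjoint_left.2 fun x hx hx' => hd ⟨x, hx.2, hx.1, hx'.1⟩
    obtain ⟨U, hU, hUe⟩ := exists_isClopen_noeth f I (C ∩ Z0 f I) (C' ∩ Z0 f I) (hC.inter hZ)
      (hC'.inter hZ) (by rw [← Set.union_inter_distrib_right, Set.inter_eq_right]; exact hsub) hd'
    obtain ⟨x, hx⟩ := hne
    obtain ⟨y, hy⟩ := hne'
    haveI : PreirreducibleSpace X := IrreducibleSpace.toPreirreducibleSpace
    rcases isClopen_iff.1 hU with h | h
    · rw [h, Set.empty_inter] at hUe
      exact hUe.symm.subset ⟨hx.2, hx.1⟩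
    · rw [h, Set.univ_inter] at hUe
      exact hd ⟨y, hy.1, (hUe.subset hy.1).1, hy.2⟩

/-- The reduced closed subscheme on an irreducible closed subset. -/
theorem exists_irreducible_subscheme {W : Set X} (hW : IsIrreducible W) (hWc : IsClosed W) :
    ∃ (X' : Scheme.{u}) (i : X' ⟶ X), IsClosedImmersion i ∧ IrreducibleSpace X' ∧ Set.range i.base = W := by
  let J := Scheme.IdealSheafData.vanishingIdeal (X := X) ⟨W, hWc⟩
  have hr : Set.range J.subschemeι.base = W := by
    rw [Scheme.IdealSheafData.range_subschemeι, Scheme.IdealSheafData.coe_support_vanishingIdeal]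
    rfl
  refine ⟨J.subscheme, J.subschemeι, inferInstance, ?_, hr⟩
  have hemb := J.subschemeι.isClosedEmbedding
  have : IrreducibleSpace (Set.range J.subschemeι.base) :=
    Subtype.irreducibleSpace (hr.symm ▸ hW)
  exact (hemb.isEmbedding.toHomeomorph).irreducibleSpace_iff.2 this

theorem range_inter_Z0 {X' : Scheme.{u}} (i : X' ⟶ X) :
    i.base '' (Z0 (i ≫ f) I) = Set.range i.base ∩ Z0 f I := by
  ext x
  constructor
  · rintro ⟨y, hy, rfl⟩; exact ⟨⟨y, rfl⟩, hy⟩
  · rintro ⟨⟨y, rfl⟩, hy⟩; exact ⟨y, hy, rfl⟩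

theorem isConnected_inter_noeth [IsNoetherianRing A] [HenselianRing A I] [IsProper f] {W : Set X}
    (hW : IsIrreducible W) (hWc : IsClosed W) : _root_.IsConnected (W ∩ Z0 f I) := by
  obtain ⟨X', i, _, _, hi⟩ := exists_irreducible_subscheme hW hWc
  rw [← hi, ← range_inter_Z0]
  exact (isConnected_Z0_noeth (i ≫ f) I).image _ i.continuous.continuousOn

end GrothLib.PropH0
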