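import Mathlib.AlgebraicGeometry.Morphisms.Affine
import Mathlib.AlgebraicGeometry.Limits

/-!
# Functions on a base change of an affine are generated by functions and scalars
-/

set_option autoImplicit false
universe u

open CategoryTheory CategoryTheory.Limits AlgebraicGeometry Opposite TopologicalSpace

namespace GrothLib.PropH0

theorem closure_range_eq_top {R B C P : CommRingCat.{u}} {f : R ⟶ B} {g : R ⟶ C} {i : B ⟶ P}
    {j : C ⟶ P} (h : IsPushout f g i j) :
    Subring.closure (Set.range i ∪ Set.range j) = (⊤ : Subring P) := by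
  let S : Subring P := Subring.closure (Set.range i ∪ Set.range j)
  let i' : B ⟶ CommRingCat.of S := CommRingCat.ofHom
    (i.hom.codRestrict S fun b => Subring.subset_closure (Or.inl ⟨b, rfl⟩))
  let j' : C ⟶ CommRingCat.of S := CommRingCat.ofHom
    (j.hom.codRestrict S fun b => Subring.subset_closure (Or.inr ⟨b, rfl⟩))
  let v : CommRingCat.of S ⟶ P := CommRingCat.ofHom S.subtype
  have hw : f ≫ i' = g ≫ j' := by
    refine CommRingCat.hom_ext (RingHom.ext fun r => Subtype.ext ?_)
    exact ConcreteCategory.congr_hom h.w r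
  have hid : h.desc i' j' hw ≫ v = 𝟙 P := by
    apply h.hom_ext
    · rw [IsPushout.inl_desc_assoc, Category.comp_id]; rfl
    · rw [IsPushout.inr_desc_assoc, Category.comp_id]; rfl
  refine eq_top_iff.2 fun x _ => ?_
  have hx : v (h.desc i' j' hw x) = x := ConcreteCategory.congr_hom hid x
  rw [← hx]
  exact (h.desc i' j' hw x).2

/-- Finitely many scalars suffice. -/
theorem exists_finset_mem_closure {P A : Type*} [CommRing P] [CommRing A] (S : Set P) (φ : A →+* P) (p : P)
    (h : p ∈ Subring.closure (S ∪ Set.range φ)) :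
    ∃ T : Finset A, p ∈ Subring.closure (S ∪ φ '' T) := by
  classical
  induction h using Subring.closure_induction with
  | mem x hx =>
    rcases hx with hx | ⟨a, rfl⟩
    · exact ⟨∅, Subring.subset_closure (Or.inl hx)⟩
    · exact ⟨{a}, Subring.subset_closure (Or.inr ⟨a, by simp, rfl⟩)⟩
  | zero => exact ⟨∅, zero_mem _⟩
  | one => exact ⟨∅, one_mem _⟩
  | add x y _ _ hx hy =>
    obtain ⟨T, hT⟩ := hx
    obtain ⟨T', hT'⟩ := hy
    exact ⟨T ∪ T', add_mem
      (Subring.closure_mono (Set.union_subset_union_right _ (Set.image_mono (by simp))) hT)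
      (Subring.closure_mono (Set.union_subset_union_right _ (Set.image_mono (by simp))) hT')⟩
  | neg x _ hx =>
    obtain ⟨T, hT⟩ := hx
    exact ⟨T, neg_mem hT⟩
  | mul x y _ _ hx hy =>
    obtain ⟨T, hT⟩ := hx
    obtain ⟨T', hT'⟩ := hy
    exact ⟨T ∪ T', mul_mem
      (Subring.closure_mono (Set.union_subset_union_right _ (Set.image_mono (by simp))) hT)
      (Subring.closure_mono (Set.union_subset_union_right _ (Set.image_mono (by simp))) hT')⟩

variable {A : Type u} [CommRing A] {Q Z Y : Scheme.{u}} [IsAffine Z] {q : Q ⟶ Z}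
  {z : Spec (CommRingCat.of A) ⟶ Z} {p : Y ⟶ Q} {f : Y ⟶ Spec (CommRingCat.of A)}

theorem closure_sections_eq_top (h : IsPullback p f q z) {V : Q.Opens} (hV : IsAffineOpen V) :
    Subring.closure (Set.range (p.app V) ∪
      Set.range ((f.appLE ⊤ (p ⁻¹ᵁ V) le_top).hom.comp
        (Scheme.ΓSpecIso (CommRingCat.of A)).inv.hom)) = (⊤ : Subring Γ(Y, p ⁻¹ᵁ V)) := by
  haveI : IsAffine V.toScheme := hV
  have h1 : IsPullback (p ∣_ V) ((p ⁻¹ᵁ V).ι ≫ f) (V.ι ≫ q) z :=
    (isPullback_morphismRestrict p V).paste_vert h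
  have h2 := closure_range_eq_top (isPushout_appTop_of_isPullback h1)
  let e := (p ⁻¹ᵁ V).topIso
  have h3 := congrArg (Subring.map e.hom.hom) h2
  rw [RingHom.map_closure, Set.image_union, ← Set.range_comp, ← Set.range_comp,
    ← RingHom.range_eq_map, RingHom.range_eq_top.2 (ConcreteCategory.bijective_of_isIso e.hom).2] at h3
  rw [← h3]
  congr 2
  · have e1 : V.topIso.inv ≫ (p ∣_ V).appTop ≫ e.hom = p.app V := by
      simp [e, Scheme.Opens.topIso, morphismRestrict_appTop, Scheme.Hom.app_eq_appLE]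
      exact (congrArg (_ ≫ ·) (Scheme.Hom.appLE_map p _ _)).trans (Scheme.Hom.map_appLE p _ _)
    ext x
    constructor
    · rintro ⟨b, rfl⟩
      exact ⟨V.topIso.inv b, ConcreteCategory.congr_hom e1 b⟩
    · rintro ⟨b, rfl⟩
      refine ⟨V.topIso.hom b, ?_⟩
      rw [← ConcreteCategory.congr_hom e1, ConcreteCategory.comp_apply, ConcreteCategory.comp_apply,
        Iso.hom_inv_id_apply]
      rfl
  · have e2 : ((p ⁻¹ᵁ V).ι ≫ f).appTop ≫ e.hom = f.appLE ⊤ (p ⁻¹ᵁ V) le_top := by
      simp [e, Scheme.Opens.topIso, Scheme.Hom.app_eq_appLE]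
      exact (congrArg (_ ≫ ·) (Y.presheaf.map_comp _ _).symm).trans (Scheme.Hom.appLE_map f _ _)
    ext x
    constructor
    · rintro ⟨a, rfl⟩
      exact ⟨(Scheme.ΓSpecIso (CommRingCat.of A)).inv a, ConcreteCategory.congr_hom e2 _⟩
    · rintro ⟨b, rfl⟩
      refine ⟨(Scheme.ΓSpecIso (CommRingCat.of A)).hom b, ?_⟩
      rw [← e2]
      simp

end GrothLib.PropH0
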