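import Groth.Agent.Lib.PropH0.Basic
import Groth.Agent.Lib.PropH0.Coeff
import Groth.Agent.Lib.Hensel.Noetherian
import Mathlib.RingTheory.FiniteType

/-!
# Connectedness of the closed fibre, for base changes of schemes proper over the integers
-/

set_option autoImplicit false
set_option maxHeartbeats 800000
universe u

open CategoryTheory CategoryTheory.Limits AlgebraicGeometry Opposite TopologicalSpace

namespace GrothLib.PropH0

theorem ev_comp_eq_zero_iff {X Y : Scheme.{u}} (π : X ⟶ Y) {U : Y.Opens} {V : X.Opens} (e : V ≤ π ⁻¹ᵁ U)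
    (x : X) (hx : x ∈ V) (s : Γ(Y, U)) :
    ev x hx ((π.appLE U V e).hom s) = 0 ↔ ev (π.base x) (e hx) s = 0 := by
  have h1 : ev x hx ((π.appLE U V e).hom s) = ev x (e hx) (π.app U s) := by
    show ev x hx ((π.app U ≫ X.presheaf.map (homOfLE e).op) s) = _
    rw [ConcreteCategory.comp_apply, ev_res]
  rw [h1, show ev x (e hx) (π.app U s) = π.residueFieldMap x (ev (π.base x) (e hx) s) from
    (Scheme.evaluation_naturality_apply π x (e hx) s).symm]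
  exact map_eq_zero_iff _ (π.residueFieldMap x).hom.injective

theorem ev_eq_zero_of_specializes {X : Scheme.{u}} {V : X.Opens} {s : Γ(X, V)} {x y : X} (h : x ⤳ y)
    (hy : y ∈ V) (hs : ev x (h.mem_open V.isOpen hy) s = 0) : ev y hy s = 0 := by
  rw [X.evaluation_eq_zero_iff_notMem_basicOpen] at hs ⊢
  exact fun hy' => hs (h.mem_open (X.basicOpen s).isOpen hy')

/-- A Noetherian henselian pair containing given elements. -/
theorem exists_noetherian_pair {A : Type u} [CommRing A] (I : Ideal A) [HenselianRing A I] (T : Finset A) :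
    ∃ (R : Type u) (_ : CommRing R) (J : Ideal R) (j : R →+* A), IsNoetherianRing R ∧ HenselianRing R J ∧
      J.map j ≤ I ∧ (∀ a ∈ T, ∃ r, j r = a) ∧ ∀ a ∈ T, a ∈ I → ∃ r ∈ J, j r = a := by
  let R₀ := Algebra.adjoin ℤ (T : Set A)
  haveI : Algebra.FiniteType ℤ R₀ := (Subalgebra.fg_iff_finiteType _).1 ⟨T, rfl⟩
  haveI : IsNoetherianRing R₀ := Algebra.FiniteType.isNoetherianRing ℤ R₀
  let J₀ : Ideal R₀ := I.comap R₀.val.toRingHom
  have hH := GrothLib.Hensel.PairHull.isPairHenselization R₀ J₀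
  haveI := GrothLib.Hensel.IsPairHenselization.isNoetherianRing hH
  obtain ⟨j, hj, -⟩ := hH.2 A I R₀.val.toRingHom inferInstance Ideal.map_comap_le
  have hj' : ∀ r : R₀, j (algebraMap R₀ _ r) = r.1 := fun r => RingHom.congr_fun hj r
  refine ⟨_, inferInstance, J₀.map (algebraMap R₀ _), j, inferInstance, hH.1, ?_,
    fun a ha => ⟨_, hj' ⟨a, Algebra.subset_adjoin ha⟩⟩,
    fun a ha haI => ⟨_, Ideal.mem_map_of_mem _ (show (⟨a, Algebra.subset_adjoin ha⟩ : R₀) ∈ J₀ from haI), hj' _⟩⟩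
  rw [Ideal.map_map, hj]
  exact Ideal.map_comap_le

variable {A : Type u} [CommRing A] {I : Ideal A}

/-- Vanishing at all points of `W` and of the closed fibre, algebraically. -/
theorem exists_witness {X : Scheme.{u}} (f : X ⟶ Spec (CommRingCat.of A)) {W : Set X} (hW : IsClosed W)
    {V : X.Opens} (hV : IsAffineOpen V) {s : Γ(X, V)}
    (hs : ∀ x (hx : x ∈ V), x ∈ W → x ∈ Z0 f I → ev x hx s = 0) :
    ∃ (N n : ℕ) (c : Fin n → Γ(X, V)) (a : Fin n → A), (∀ k, a k ∈ I) ∧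
      ∀ x (hx : x ∈ V), x ∈ W → ev x hx (s ^ N - ∑ k, c k * σ f V (a k)) = 0 := by
  let P : Ideal Γ(X, V) := ⨅ (x : X) (hx : x ∈ V) (_ : x ∈ W), RingHom.ker (ev x hx)
  have hP : ∀ t, t ∈ P ↔ ∀ x (hx : x ∈ V), x ∈ W → ev x hx t = 0 := fun t => by
    simp only [P, Ideal.mem_iInf, RingHom.mem_ker]
  have hrad : s ∈ (P ⊔ I.map (σ f V)).radical := by
    rw [Ideal.radical_eq_sInf, Ideal.mem_sInf]
    rintro Q ⟨hQ, hQp⟩
    let q : PrimeSpectrum Γ(X, V) := ⟨Q, hQp⟩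
    have hqW : hV.fromSpec.base q ∈ W := by
      have hle : PrimeSpectrum.vanishingIdeal (hV.fromSpec.base ⁻¹' W) ≤ P := fun t ht =>
        (hP t).2 fun x hx hxW => by
          obtain ⟨r, rfl⟩ := hV.range_fromSpec.symm.subset hx
          exact (ev_fromSpec_eq_zero_iff hV r hx t).2 ((PrimeSpectrum.mem_vanishingIdeal _ _).1 ht r hxW)
      have h : q ∈ closure (hV.fromSpec.base ⁻¹' W : Set (PrimeSpectrum Γ(X, V))) :=
        (PrimeSpectrum.zeroLocus_vanishingIdeal_eq_closure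
          (hV.fromSpec.base ⁻¹' W : Set (PrimeSpectrum Γ(X, V)))).subset
          fun t ht => (le_sup_left.trans hQ) (hle ht)
      exact (hW.preimage hV.fromSpec.continuous).closure_subset h
    exact (ev_fromSpec_eq_zero_iff hV q _ s).1
      (hs _ (fromSpec_mem hV q) hqW (fromSpec_mem_Z0 f I hV q (le_sup_right.trans hQ)))
  obtain ⟨N, hN⟩ := hrad
  obtain ⟨p, hp, w, hw, e⟩ := Submodule.mem_sup.1 hN
  obtain ⟨n, c, g, hg⟩ := Submodule.mem_span_set'.1 (hw : w ∈ Submodule.span Γ(X, V) (σ f V '' I))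
  have hgk : ∀ k, ∃ a ∈ I, σ f V a = (g k).1 := fun k => (g k).2
  choose a haI hav using hgk
  refine ⟨N, n, c, a, haI, fun x hx hxW => ?_⟩
  rw [show s ^ N - ∑ k, c k * σ f V (a k) = p by
    rw [← e, Finset.sum_congr rfl (fun k _ => by rw [hav k]), ← hg]
    simp [smul_eq_mul]]
  exact (hP p).1 hp x hx hxW

variable [HenselianRing A I] {Q Z Y : Scheme.{u}} [IsAffine Z] {q : Q ⟶ Z} [IsProper q]
  {z : Spec (CommRingCat.of A) ⟶ Z} {p : Y ⟶ Q} {f : Y ⟶ Spec (CommRingCat.of A)}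

theorem isConnected_inter_baseChange (hZ : IsTerminal Z) (h : IsPullback p f q z) {W : Set Y}
    (hW : IsIrreducible W) (hWc : IsClosed W) : _root_.IsConnected (W ∩ Z0 f I) := by
  classical
  haveI : IsProper f := MorphismProperty.of_isPullback h inferInstance
  refine ⟨inter_Z0_nonempty f I HenselianRing.jac hWc hW.nonempty,
    isPreconnected_closed_iff.2 fun C C' hC hC' hsub hne hne' => ?_⟩
  by_contra hd
  have hCC : Disjoint (C ∩ (W ∩ Z0 f I)) (C' ∩ (W ∩ Z0 f I)) :=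
    Set.disjoint_left.2 fun x hx hx' => hd ⟨x, hx.2, hx.1, hx'.1⟩
  have hWZ : IsClosed (W ∩ Z0 f I) := hWc.inter (isClosed_Z0 f I)
  -- charts
  haveI : CompactSpace Q := QuasiCompact.compactSpace_of_compactSpace q
  haveI : Q.IsSeparated := ⟨by rw [← terminal.comp_from q]; infer_instance⟩
  haveI : IsAffineHom p := MorphismProperty.of_isPullback h.flip inferInstance
  obtain ⟨t, ht⟩ := isCompact_univ.elim_finite_subcover (fun V : Q.affineOpens => (V.1 : Set Q))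
    (fun V => V.1.isOpen) (fun x _ => by
      obtain ⟨V, hV, hxV, -⟩ := exists_isAffineOpen_mem_and_subset (x := x) (U := ⊤) trivial
      exact Set.mem_iUnion.2 ⟨⟨V, hV⟩, hxV⟩)
  have hcov : ∀ x : Q, ∃ i : t, x ∈ i.1.1 := fun x => by
    obtain ⟨V, hV, hxV⟩ := Set.mem_iUnion₂.1 (ht (Set.mem_univ x))
    exact ⟨⟨V, hV⟩, hxV⟩
  have haff : ∀ i : t, IsAffineOpen (p ⁻¹ᵁ i.1.1) := fun i => i.1.2.preimage p
  choose b hb0 hb1 using fun i : t => exists_sep (haff i) (hC.inter hWZ) (hC'.inter hWZ) hCC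
  have hval : ∀ (x : Y), x ∈ W → x ∈ Z0 f I → (x ∈ C ∩ (W ∩ Z0 f I) ∨ x ∈ C' ∩ (W ∩ Z0 f I)) :=
    fun x hxW hxZ => (hsub ⟨hxW, hxZ⟩).imp (fun hx => ⟨hx, hxW, hxZ⟩) (fun hx => ⟨hx, hxW, hxZ⟩)
  have hwit1 : ∀ i : t, ∃ (N n : ℕ) (c : Fin n → Γ(Y, p ⁻¹ᵁ i.1.1)) (a : Fin n → A), (∀ k, a k ∈ I) ∧
      ∀ x (hx : x ∈ p ⁻¹ᵁ i.1.1), x ∈ W →
        ev x hx ((b i * (1 - b i)) ^ N - ∑ k, c k * σ f _ (a k)) = 0 := fun i =>
    exists_witness f hWc (haff i) fun x hx hxW hxZ => by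
      rcases hval x hxW hxZ with hxC | hxC
      · rw [map_mul, hb0 i x hx hxC, zero_mul]
      · rw [map_mul, map_sub, map_one, hb1 i x hx hxC, sub_self, mul_zero]
  choose N₁ n₁ c₁ a₁ ha₁ hp₁ using hwit1
  have hwit2 : ∀ ij : t × t, ∃ (N n : ℕ) (c : Fin n → Γ(Y, p ⁻¹ᵁ (ij.1.1.1 ⊓ ij.2.1.1))) (a : Fin n → A),
      (∀ k, a k ∈ I) ∧ ∀ x (hx : x ∈ p ⁻¹ᵁ (ij.1.1.1 ⊓ ij.2.1.1)), x ∈ W → ev x hx
        ((Y.presheaf.map (homOfLE (p.preimage_mono inf_le_left)).op (b ij.1) -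
          Y.presheaf.map (homOfLE (p.preimage_mono inf_le_right)).op (b ij.2)) ^ N -
            ∑ k, c k * σ f _ (a k)) = 0 := fun ij =>
    exists_witness f hWc ((ij.1.1.2.inf ij.2.1.2).preimage p) fun x hx hxW hxZ => by
      rw [map_sub, ev_res, ev_res]
      rcases hval x hxW hxZ with hxC | hxC
      · rw [hb0 _ x _ hxC, hb0 _ x _ hxC, sub_self]
      · rw [hb1 _ x _ hxC, hb1 _ x _ hxC, sub_self]
  choose N₂ n₂ c₂ a₂ ha₂ hp₂ using hwit2
  -- finitely many scalars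
  have hfin : ∀ (V : Q.Opens), IsAffineOpen V → ∀ s : Γ(Y, p ⁻¹ᵁ V), ∃ T : Finset A,
      s ∈ Subring.closure (Set.range (p.app V) ∪ σ f (p ⁻¹ᵁ V) '' T) := fun V hV s =>
    exists_finset_mem_closure _ _ s ((closure_sections_eq_top h hV).ge (Subring.mem_top s))
  choose Tb hTb using fun i : t => hfin _ i.1.2 (b i)
  choose Tc₁ hTc₁ using fun (i : t) k => hfin _ i.1.2 (c₁ i k)
  choose Tc₂ hTc₂ using fun (ij : t × t) k => hfin _ (ij.1.1.2.inf ij.2.1.2) (c₂ ij k)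
  let T : Finset A := Finset.univ.biUnion (fun i => Tb i ∪ Finset.univ.biUnion (fun k => insert (a₁ i k) (Tc₁ i k))) ∪
    Finset.univ.biUnion (fun ij => Finset.univ.biUnion (fun k => insert (a₂ ij k) (Tc₂ ij k)))
  obtain ⟨R, _, J, j, _, _, hJI, hrange, hrangeI⟩ := exists_noetherian_pair I T
  -- the model over `R`
  let YR := pullback q (hZ.from (Spec (CommRingCat.of R)))
  let pR : YR ⟶ Q := pullback.fst _ _
  let fR : YR ⟶ Spec (CommRingCat.of R) := pullback.snd _ _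
  let π : Y ⟶ YR := pullback.lift p (f ≫ Spec.map (CommRingCat.ofHom j)) (hZ.hom_ext _ _)
  have hπp : π ≫ pR = p := pullback.lift_fst _ _ _
  have hπf : π ≫ fR = f ≫ Spec.map (CommRingCat.ofHom j) := pullback.lift_snd _ _ _
  have hpre : ∀ V : Q.Opens, p ⁻¹ᵁ V ≤ π ⁻¹ᵁ (pR ⁻¹ᵁ V) := fun V x hx => by
    show (π ≫ pR).base x ∈ V
    rw [hπp]; exact hx
  let φ : ∀ V : Q.Opens, Γ(YR, pR ⁻¹ᵁ V) →+* Γ(Y, p ⁻¹ᵁ V) := fun V =>
    (π.appLE (pR ⁻¹ᵁ V) (p ⁻¹ᵁ V) (hpre V)).hom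
  have hφp : ∀ (V : Q.Opens) (s : Γ(Q, V)), φ V (pR.app V s) = p.app V s := by
    intro V s
    show (pR.app V ≫ π.appLE (pR ⁻¹ᵁ V) (p ⁻¹ᵁ V) (hpre V)) s = _
    have e : pR.app V ≫ π.appLE (pR ⁻¹ᵁ V) (p ⁻¹ᵁ V) (hpre V) = p.app V := by
      simp only [Scheme.Hom.app_eq_appLE, Scheme.Hom.appLE_comp_appLE]
      congr 1 <;> exact hπp
    rw [e]
  have hφs : ∀ (V : Q.Opens) (r : R), φ V (σ fR _ r) = σ f _ (j r) := by
    intro V r
    show (fR.appLE ⊤ (pR ⁻¹ᵁ V) le_top ≫ π.appLE (pR ⁻¹ᵁ V) (p ⁻¹ᵁ V) (hpre V))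
      ((Scheme.ΓSpecIso (CommRingCat.of R)).inv r) = _
    rw [Scheme.Hom.appLE_comp_appLE]
    have e : ∀ (g : Y ⟶ Spec (CommRingCat.of R)) (hg : g = f ≫ Spec.map (CommRingCat.ofHom j))
        (le : p ⁻¹ᵁ V ≤ g ⁻¹ᵁ ⊤), g.appLE ⊤ (p ⁻¹ᵁ V) le ((Scheme.ΓSpecIso (CommRingCat.of R)).inv r) =
          σ f _ (j r) := by
      rintro g rfl le
      rw [show (f ≫ Spec.map (CommRingCat.ofHom j)).appLE ⊤ (p ⁻¹ᵁ V) le =
        (Spec.map (CommRingCat.ofHom j)).appTop ≫ f.appLE ⊤ (p ⁻¹ᵁ V) le_top from Scheme.Hom.comp_appLE _ _ _ _ _,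
        ConcreteCategory.comp_apply]
      exact congrArg (f.appLE ⊤ (p ⁻¹ᵁ V) le_top)
        (ConcreteCategory.congr_hom (Scheme.ΓSpecIso_inv_naturality (CommRingCat.ofHom j)).symm r)
    exact e _ hπf _
  have hlift : ∀ (V : Q.Opens) (s : Γ(Y, p ⁻¹ᵁ V)) (T' : Finset A), T' ⊆ T →
      s ∈ Subring.closure (Set.range (p.app V) ∪ σ f (p ⁻¹ᵁ V) '' T') → ∃ s', φ V s' = s := by
    intro V s T' hT' hs
    refine (Subring.closure_le.2 ?_ hs : s ∈ (φ V).range)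
    rintro _ (⟨v, rfl⟩ | ⟨a, ha, rfl⟩)
    · exact ⟨_, hφp V v⟩
    · obtain ⟨r, rfl⟩ := hrange a (hT' ha)
      exact ⟨_, hφs V r⟩
  have hsub1 : ∀ i, Tb i ⊆ T := fun i a ha => Finset.mem_union_left _
    (Finset.mem_biUnion.2 ⟨i, Finset.mem_univ _, Finset.mem_union_left _ ha⟩)
  have hsub2 : ∀ i k, insert (a₁ i k) (Tc₁ i k) ⊆ T := fun i k a ha => Finset.mem_union_left _
    (Finset.mem_biUnion.2 ⟨i, Finset.mem_univ _, Finset.mem_union_right _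
      (Finset.mem_biUnion.2 ⟨k, Finset.mem_univ _, ha⟩)⟩)
  have hsub3 : ∀ ij k, insert (a₂ ij k) (Tc₂ ij k) ⊆ T := fun ij k a ha => Finset.mem_union_right _
    (Finset.mem_biUnion.2 ⟨ij, Finset.mem_univ _, Finset.mem_biUnion.2 ⟨k, Finset.mem_univ _, ha⟩⟩)
  choose bR hbR using fun i => hlift _ (b i) _ (hsub1 i) (hTb i)
  choose cR₁ hcR₁ using fun i k => hlift _ (c₁ i k) _
    ((Finset.subset_insert _ _).trans (hsub2 i k)) (hTc₁ i k)
  choose cR₂ hcR₂ using fun ij k => hlift _ (c₂ ij k) _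
    ((Finset.subset_insert _ _).trans (hsub3 ij k)) (hTc₂ ij k)
  choose rR₁ hrJ₁ hr₁ using fun i k => hrangeI (a₁ i k) (hsub2 i k (Finset.mem_insert_self _ _)) (ha₁ i k)
  choose rR₂ hrJ₂ hr₂ using fun ij k => hrangeI (a₂ ij k) (hsub3 ij k (Finset.mem_insert_self _ _)) (ha₂ ij k)
  -- the image of the generic point
  let η := hW.genericPoint
  have hη : IsGenericPoint η W := hW.isGenericPoint_genericPoint hWc
  let WR : Set YR := closure {π.base η}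
  haveI : IsProper fR := inferInstanceAs (IsProper (pullback.snd _ _))
  have hconn : _root_.IsConnected (WR ∩ Z0 fR J) :=
    isConnected_inter_noeth fR J isIrreducible_singleton.closure isClosed_closure
  have hmapW : ∀ x ∈ W, π.base x ∈ WR := fun x hx =>
    ((hη.specializes hx).map π.continuous).mem_closure
  have hmapZ : ∀ x ∈ Z0 f I, π.base x ∈ Z0 fR J := fun x hx r hr => by
    show r ∈ ((π ≫ fR).base x : PrimeSpectrum R).asIdeal
    rw [hπf]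
    exact hx (hJI (Ideal.mem_map_of_mem j hr))
  have hdown : ∀ (V : Q.Opens) (s' : Γ(YR, pR ⁻¹ᵁ V)),
      (∀ x (hx : x ∈ p ⁻¹ᵁ V), x ∈ W → ev x hx (φ V s') = 0) →
      ∀ y (hy : y ∈ pR ⁻¹ᵁ V), y ∈ WR → ev y hy s' = 0 := by
    intro V s' hs' y hy hyW
    have hsp : π.base η ⤳ y := specializes_iff_mem_closure.2 hyW
    refine ev_eq_zero_of_specializes hsp hy ?_
    have hη' : η ∈ p ⁻¹ᵁ V := by
      have h := hsp.mem_open (pR ⁻¹ᵁ V).isOpen hy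
      show p.base η ∈ V
      rw [← hπp]; exact h
    exact (ev_comp_eq_zero_iff π (hpre V) η hη' s').1 (hs' η hη' hη.mem)
  have hJvanish : ∀ (V : YR.Opens) y (hy : y ∈ V), y ∈ Z0 fR J → ∀ r ∈ J, ev y hy (σ fR V r) = 0 :=
    fun V y hy hyZ r hr => (mem_Z0_iff fR J y hy).1 hyZ r hr
  have hbool : ∀ i y (hy : y ∈ pR ⁻¹ᵁ i.1.1), y ∈ WR → y ∈ Z0 fR J →
      ev y hy (bR i) = 0 ∨ ev y hy (bR i) = 1 := by
    intro i y hy hyW hyZ
    have h := hdown _ ((bR i * (1 - bR i)) ^ N₁ i - ∑ k, cR₁ i k * σ fR _ (rR₁ i k)) (fun x hx hxW => by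
      simp only [map_sub, map_pow, map_mul, map_one, map_sum, hbR, hcR₁, hφs, hr₁]
      have := hp₁ i x hx hxW
      simpa only [map_sub, map_pow, map_mul, map_one, map_sum] using this) y hy hyW
    rw [map_sub, map_sum, Finset.sum_eq_zero (fun k _ => by
      rw [map_mul, hJvanish _ y hy hyZ _ (hrJ₁ i k), mul_zero]), sub_zero, map_pow] at h
    have h' := pow_eq_zero_iff'.1 h |>.1
    rw [map_mul, map_sub, map_one] at h'
    exact (mul_eq_zero.1 h').imp_right fun h => (sub_eq_zero.1 h).symm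
  have hagree : ∀ i j' y (hy : y ∈ pR ⁻¹ᵁ i.1.1) (hy' : y ∈ pR ⁻¹ᵁ j'.1.1), y ∈ WR → y ∈ Z0 fR J →
      ev y hy (bR i) = ev y hy' (bR j') := by
    intro i j' y hy hy' hyW hyZ
    have hφres : ∀ {V V' : Q.Opens} (hVV : V' ≤ V) (s : Γ(YR, pR ⁻¹ᵁ V)),
        φ V' (YR.presheaf.map (homOfLE (pR.preimage_mono hVV)).op s) =
          Y.presheaf.map (homOfLE (p.preimage_mono hVV)).op (φ V s) := by
      intro V V' hVV s
      show (YR.presheaf.map _ ≫ π.appLE _ _ _) s = (π.appLE _ _ _ ≫ Y.presheaf.map _) s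
      rw [Scheme.Hom.map_appLE, Scheme.Hom.appLE_map]
    have h := hdown ((i, j').1.1.1 ⊓ (i, j').2.1.1)
      ((YR.presheaf.map (homOfLE (pR.preimage_mono inf_le_left)).op (bR i) -
        YR.presheaf.map (homOfLE (pR.preimage_mono inf_le_right)).op (bR j')) ^ N₂ (i, j') -
          ∑ k, cR₂ (i, j') k * σ fR _ (rR₂ (i, j') k)) (fun x hx hxW => by
      simp only [map_sub, map_pow, map_mul, map_sum]
      erw [hφres (V := i.1.1) inf_le_left, hφres (V := j'.1.1) inf_le_right]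
      have hcR₂' : ∀ k, φ (i.1.1 ⊓ j'.1.1) (cR₂ (i, j') k) = c₂ (i, j') k := hcR₂ (i, j')
      simp only [hbR, hcR₂', hφs, hr₂]
      have := hp₂ (i, j') x hx hxW
      simpa only [map_sub, map_pow, map_mul, map_sum] using this) y (show y ∈ pR ⁻¹ᵁ (i.1.1 ⊓ j'.1.1) from ⟨hy, hy'⟩) hyW
    rw [map_sub, map_sum, Finset.sum_eq_zero (fun k _ => by
      rw [map_mul, hJvanish _ y (show y ∈ pR ⁻¹ᵁ (i.1.1 ⊓ j'.1.1) from ⟨hy, hy'⟩) hyZ _ (hrJ₂ (i, j') k), mul_zero]), sub_zero, map_pow] at h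
    have h' := pow_eq_zero_iff'.1 h |>.1
    rw [map_sub, ev_res, ev_res, sub_eq_zero] at h'
    exact h'
  let D : Set YR := (WR ∩ Z0 fR J) ∩ ⋂ i : t, (YR.basicOpen (bR i) : Set YR)ᶜ
  let D' : Set YR := (WR ∩ Z0 fR J) ∩ ⋂ i : t, (YR.basicOpen (1 - bR i) : Set YR)ᶜ
  have hD : IsClosed D := (isClosed_closure.inter (isClosed_Z0 fR J)).inter
    (isClosed_iInter fun i => (YR.basicOpen _).isOpen.isClosed_compl)
  have hD' : IsClosed D' := (isClosed_closure.inter (isClosed_Z0 fR J)).inter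
    (isClosed_iInter fun i => (YR.basicOpen _).isOpen.isClosed_compl)
  have hmem : ∀ {V : YR.Opens} (s : Γ(YR, V)) y, (y ∈ (YR.basicOpen s : Set YR)ᶜ ↔
      ∀ hy : y ∈ V, ev y hy s = 0) := fun {V} s y =>
    ⟨fun hy hyV => (YR.evaluation_eq_zero_iff_notMem_basicOpen y hyV s).2 hy, fun h hy =>
      (YR.evaluation_ne_zero_iff_mem_basicOpen y (YR.basicOpen_le s hy) s).2 hy (h _)⟩
  have hcase : ∀ y ∈ WR ∩ Z0 fR J, ∀ i (hy : y ∈ pR ⁻¹ᵁ i.1.1),
      (ev y hy (bR i) = 0 → y ∈ D) ∧ (ev y hy (bR i) = 1 → y ∈ D') := by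
    intro y hyWZ i hy
    refine ⟨fun h0 => ⟨hyWZ, Set.mem_iInter.2 fun k => (hmem _ _).2 fun hk =>
      (hagree k i y hk hy hyWZ.1 hyWZ.2).trans h0⟩, fun h1 => ⟨hyWZ, Set.mem_iInter.2 fun k => (hmem _ _).2 fun hk => ?_⟩⟩
    rw [map_sub, map_one, hagree k i y hk hy hyWZ.1 hyWZ.2, h1, sub_self]
  have hDsub : WR ∩ Z0 fR J ⊆ D ∪ D' := fun y hy => by
    obtain ⟨i, hi⟩ := hcov (pR.base y)
    exact (hbool i y hi hy.1 hy.2).imp (hcase y hy i hi).1 (hcase y hy i hi).2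
  have himg : ∀ x, x ∈ W ∩ Z0 f I → ∀ i (hx : x ∈ p ⁻¹ᵁ i.1.1),
      (ev x hx (b i) = 0 ↔ ev (π.base x) (hpre _ hx) (bR i) = 0) := fun x hxWZ i hx => by
    rw [← hbR i]
    exact ev_comp_eq_zero_iff π (hpre _) x hx (bR i)
  obtain ⟨x, hxWZ, hxC⟩ := hne
  obtain ⟨x', hx'WZ, hx'C⟩ := hne'
  obtain ⟨i, hi⟩ := hcov (p.base x)
  obtain ⟨i', hi'⟩ := hcov (p.base x')
  have hxR : π.base x ∈ WR ∩ Z0 fR J := ⟨hmapW x hxWZ.1, hmapZ x hxWZ.2⟩
  have hx'R : π.base x' ∈ WR ∩ Z0 fR J := ⟨hmapW x' hx'WZ.1, hmapZ x' hx'WZ.2⟩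
  have hxD : π.base x ∈ D := (hcase _ hxR i (hpre _ hi)).1
    ((himg x hxWZ i hi).1 (hb0 i x hi ⟨hxC, hxWZ⟩))
  have hx'D : π.base x' ∈ D' := (hcase _ hx'R i' (hpre _ hi')).2
    ((hbool i' _ (hpre _ hi') hx'R.1 hx'R.2).resolve_left fun h0 => one_ne_zero
      ((hb1 i' x' hi' ⟨hx'C, hx'WZ⟩).symm.trans ((himg x' hx'WZ i' hi').2 h0)))
  obtain ⟨y, -, hyD, hyD'⟩ := isPreconnected_closed_iff.1 hconn.isPreconnected D D' hD hD' hDsub
    ⟨_, hxR, hxD⟩ ⟨_, hx'R, hx'D⟩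
  obtain ⟨k, hk⟩ := hcov (pR.base y)
  have h0 := (hmem _ _).1 (Set.mem_iInter.1 hyD.2 k) hk
  have h1 := (hmem _ _).1 (Set.mem_iInter.1 hyD'.2 k) hk
  rw [map_sub, map_one, h0, sub_zero] at h1
  exact one_ne_zero h1

end GrothLib.PropH0
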