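import Groth.Agent.Lib.PropH0.EtH0
import Groth.Agent.Lib.EtSec.Pull
import Groth.Agent.Lib.EtSec.LocConn

/-!
# Stalks of direct images under proper maps
-/

set_option autoImplicit false
universe u

open CategoryTheory CategoryTheory.Limits AlgebraicGeometry Opposite TopologicalSpace
open GrothLib.EtSite GrothLib.EtSec

set_option backward.isDefEq.respectTransparency.types false

noncomputable section

namespace GrothLib.PropH0

/-- Restriction of relative sections to a closed subscheme meeting every integral cover connectedly. -/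
theorem res_bijective_of_connOnIntegral {S X Z : Scheme.{u}} (i : Z ⟶ X) [IsClosedImmersion i]
    [CompactSpace X] [QuasiSeparatedSpace X] (hi : ConnOnIntegral i) {F : EtDesc.Sh S} {b : X ⟶ S}
    {c : Z ⟶ S} (e : i ≫ b = c) :
    Function.Bijective (fun σ : Secs b F => σ.res i e) := by
  subst e
  refine ⟨fun σ τ h => Secs.eq_of_eqLocus σ τ fun x => ?_, fun τ => ?_⟩
  · obtain ⟨_, ⟨z, rfl⟩, hxz⟩ := exists_specializes_range hi x
    refine hxz.mem_open (Secs.isOpen_eqLocus σ τ) ?_
    rw [← Secs.mem_eqLocus_res i rfl σ τ z, Secs.eqLocus_eq_univ h]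
    trivial
  · obtain ⟨τ', hτ'⟩ := (secsPull_bijective b F i).2 τ
    obtain ⟨σ, hσ⟩ := restrict_surjective i hi τ'
    refine ⟨(secsPull b F (𝟙 X) σ).res (𝟙 X) ((Category.id_comp _).trans (Category.id_comp b)), ?_⟩
    subst hσ
    rw [← hτ']
    refine Eq.trans ?_ (secsPull_res b F (𝟙 X) i (Category.comp_id i) σ).symm
    exact (Secs.res_comp _ _ _ _ _).trans (Secs.res_congr (Category.comp_id i) _ _ _)

section Local

variable {S T : Scheme.{u}} (g : T ⟶ S) {F : EtDesc.Sh T}

/-- Relative sections over a local scheme are determined on the closed fibre of a closed map. -/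
theorem resT_pt_injective [UniversallyClosed g] {S₀ : Scheme.{u}} {Ω : Type u} [Field Ω]
    {η : Spec (CommRingCat.of Ω) ⟶ S₀} (N : ProNbhd η) {z : N.c.pt ⟶ S} {z₀ : Spec (CommRingCat.of Ω) ⟶ S}
    (e : N.pt ≫ z = z₀) :
    Function.Injective (fun s : Secs (pullback.snd z g) F => resT g N.pt e s) := by
  intro σ τ h
  refine Secs.eq_of_eqLocus σ τ fun x => ?_
  let E : (pullback z g).Opens := ⟨Secs.eqLocus σ τ, Secs.isOpen_eqLocus σ τ⟩
  haveI : UniversallyClosed (pullback.fst z g) := MorphismProperty.pullback_fst z g ‹_›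
  have hsp : (pullback.fst z g).base x ⤳ N.pt.base default :=
    specializes_iff_forall_open.2 fun O hO hp =>
      (N.eq_top ⟨O, hO⟩ hp).ge (Set.mem_univ _)
  obtain ⟨x', hx', hxx'⟩ : ∃ x', (pullback.fst z g).base x' = N.pt.base default ∧ x ⤳ x' := by
    obtain ⟨x', hx', e'⟩ := hsp.mem_closed ((pullback.fst z g).isClosedMap _ (isClosed_closure (s := {x})))
      ⟨x, subset_closure rfl, rfl⟩
    exact ⟨x', e', specializes_iff_mem_closure.2 hx'⟩
  refine hxx'.mem_open E.isOpen ?_
  obtain ⟨o, ho, -⟩ := Scheme.exists_preimage_of_isPullback (isPullback_bmap g N.pt e) x' default hx'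
  rw [← ho]
  show (bmap g N.pt e).base o ∈ Secs.eqLocus σ τ
  rw [← Secs.mem_eqLocus_res (bmap g N.pt e) (bmap_snd g N.pt e) σ τ o, Secs.eqLocus_eq_univ h]
  trivial

variable [IsProper g] {Ω : Type u} [Field Ω] {η : Spec (CommRingCat.of Ω) ⟶ S}

/-- Relative sections over a strictly henselian scheme are those on the geometric closed fibre. -/
theorem resT_pt_bijective (N : ProNbhd η) (H : Type u) [CommRing H] [HenselianLocalRing H]
    [IsSepClosed (IsLocalRing.ResidueField H)] (e : Spec (CommRingCat.of H) ≅ N.c.pt)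
    (he : (N.pt ≫ e.inv).base default = IsLocalRing.closedPoint H) :
    Function.Bijective (fun s : Secs (pullback.snd N.bc g) F => resT g N.pt N.hpt s) := by
  refine ⟨resT_pt_injective g N N.hpt, fun τ₀ => ?_⟩
  let C := IsLocalRing.ResidueField H
  let j : Spec (CommRingCat.of C) ⟶ Spec (CommRingCat.of H) :=
    Spec.map (CommRingCat.ofHom (IsLocalRing.residue H))
  haveI : IsClosedImmersion j := IsClosedImmersion.spec_of_surjective _ IsLocalRing.residue_surjective
  have hjd : j.base default = IsLocalRing.closedPoint H := by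
    rw [Subsingleton.elim (default : Spec (CommRingCat.of C)) (IsLocalRing.closedPoint C)]
    exact IsLocalRing.comap_closedPoint (IsLocalRing.residue H)
  obtain ⟨a, ha⟩ := exists_lift_closedImmersion j (N.pt ≫ e.inv) ⟨default, hjd.trans he.symm⟩
  let zH : Spec (CommRingCat.of H) ⟶ S := e.hom ≫ N.bc
  let zC : Spec (CommRingCat.of C) ⟶ S := j ≫ zH
  have haz : a ≫ zC = η := by
    rw [← N.hpt]
    simp only [zC, zH]
    rw [← Category.assoc, ha, Category.assoc, Iso.inv_hom_id_assoc]
  -- the extension of separably closed fields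
  obtain ⟨φ, hφ⟩ := Spec.map_surjective a
  haveI : Flat a := by
    rw [← hφ, Flat.SpecMap_iff]
    letI := φ.hom.toAlgebra
    exact Module.Flat.of_free (R := C) (M := Ω)
  haveI : Surjective a := ⟨fun x => ⟨default, Subsingleton.elim _ _⟩⟩
  have hconn : HasConnectedFibres a := by
    intro K _ _ η'
    letI : Algebra C K := (Spec.preimage η').hom.toAlgebra
    have hη' : η' = Spec.map (CommRingCat.ofHom (algebraMap C K)) := (Spec.map_preimage η').symm
    rw [hη']
    haveI := GrothLib.BaseChange.geometricallyIrreducible_spec_of_isSepClosed C K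
    haveI : GeometricallyConnected (Spec.map (CommRingCat.ofHom (algebraMap C K))) := by
      refine ⟨fun M _ y Z fst snd h => ?_⟩
      have := GeometricallyIrreducible.geometrically_irreducibleSpace
        (f := Spec.map (CommRingCat.ofHom (algebraMap C K))) _ _ _ h
      infer_instance
    haveI : ConnectedSpace ↥(Spec (CommRingCat.of Ω)) := GrothLib.EtSec.connectedSpace_of_isLocalRing Ω
    infer_instance
  obtain ⟨τC, hτC⟩ := (resT_bijective g a haz (uGen_of_flat a) hconn).2 τ₀
  -- the henselian step
  let fH : pullback zH g ⟶ Spec (CommRingCat.of H) := pullback.fst zH g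
  haveI : IsProper fH := MorphismProperty.pullback_fst zH g ‹_›
  let i : pullback zC g ⟶ pullback zH g := bmap g j rfl
  haveI : IsClosedImmersion i := MorphismProperty.of_isPullback (isPullback_bmap g j rfl).flip ‹IsClosedImmersion j›
  haveI := (compactSpace_of_proper fH).1
  haveI := (compactSpace_of_proper fH).2
  have hr : Set.range i.base = Z0 fH (IsLocalRing.maximalIdeal H) := by
    ext x
    constructor
    · rintro ⟨y, rfl⟩
      have : fH.base (i.base y) = IsLocalRing.closedPoint H := by
        show (i ≫ fH).base y = _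
        rw [bmap_fst]
        exact (congrArg j.base (Subsingleton.elim _ default)).trans hjd
      show fH.base (i.base y) ∈ PrimeSpectrum.zeroLocus _
      rw [this]
      exact (Set.Subset.refl _ : (IsLocalRing.maximalIdeal H : Set H) ⊆ IsLocalRing.maximalIdeal H)
    · intro hx
      have hc : fH.base x = IsLocalRing.closedPoint H :=
        PrimeSpectrum.ext (((IsLocalRing.maximalIdeal.isMaximal H).eq_of_le (fH.base x).isPrime.ne_top hx).symm)
      obtain ⟨y, hy, -⟩ :=
        Scheme.exists_preimage_of_isPullback (isPullback_bmap g j rfl) x default (hc.trans hjd.symm)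
      exact ⟨y, hy⟩
  obtain ⟨τH, hτH⟩ := (res_bijective_of_connOnIntegral i
    (connOnIntegral_of_proper i (IsLocalRing.maximalIdeal H) fH hr)
    (bmap_snd g j (rfl : j ≫ zH = zC))).2 τC
  refine ⟨resT g e.inv (by rw [Iso.inv_hom_id_assoc]) τH, ?_⟩
  refine (resT_resT g _ _ _ _ τH).trans ((resT_congr g ha.symm _ ?_ τH).trans ?_)
  · rw [Category.assoc]; exact haz
  · rw [← hτC, ← hτH]
    exact (resT_resT g a haz j rfl τH).symm

end Local

end GrothLib.PropH0
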