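import Groth.Agent.Lib.EtBasicB.SepClosedNormal
import Groth.Agent.Lib.WLocal.Square
import Mathlib.AlgebraicGeometry.Normalization
import Mathlib.RingTheory.IntegralClosure.IntegrallyClosed
import Mathlib.RingTheory.Algebraic.Basic

/-!
# The normalization of a scheme in a geometric point

It is an integral scheme, integral over the given one, with strictly henselian local rings: every
etale scheme over it has, through each point, exactly one lift of the given geometric point.
-/

set_option autoImplicit false
universe u

open CategoryTheory CategoryTheory.Limits AlgebraicGeometry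

namespace GrothLib.PropH0

section Algebra

variable {R K : Type u} [CommRing R] [Field K] [Algebra R K]

theorem isIntegrallyClosed_closure : IsIntegrallyClosed (integralClosure R K) := by
  set B := integralClosure R K
  set F := FractionRing B
  let j : F →+* K := IsFractionRing.lift (g := algebraMap B K) Subtype.val_injective
  rw [isIntegrallyClosed_iff F]
  intro x hx
  letI : Algebra F K := j.toAlgebra
  haveI : IsScalarTower B F K := IsScalarTower.of_algebraMap_eq fun a => (IsFractionRing.lift_algebraMap _ a).symm
  have h : IsIntegral R (j x) := isIntegral_trans (R := R) (A := B) (j x) (hx.map (IsScalarTower.toAlgHom B F K))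
  exact ⟨⟨j x, h⟩, j.injective ((IsFractionRing.lift_algebraMap _ _).trans rfl)⟩

theorem isSepClosed_fractionRing_closure [IsSepClosed K] :
    IsSepClosed (FractionRing (integralClosure R K)) := by
  set B := integralClosure R K
  set F := FractionRing B
  let j : F →+* K := IsFractionRing.lift (g := algebraMap B K) Subtype.val_injective
  letI : Algebra F K := j.toAlgebra
  haveI : IsScalarTower B F K := IsScalarTower.of_algebraMap_eq fun a => (IsFractionRing.lift_algebraMap _ a).symm
  refine IsSepClosed.of_exists_root _ fun p hp hirr hsep => ?_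
  obtain ⟨r, hr⟩ := IsSepClosed.exists_root (p.map (algebraMap F K))
    (by rw [Polynomial.degree_map]; exact (Irreducible.degree_pos hirr).ne') hsep.map
  have halgF : IsAlgebraic F r := ⟨p, hirr.ne_zero, by
    rwa [Polynomial.IsRoot, Polynomial.eval_map, ← Polynomial.aeval_def] at hr⟩
  obtain ⟨y, hy0, hy⟩ := ((IsFractionRing.isAlgebraic_iff B F K).2 halgF).exists_integral_multiple
  have hyR : IsIntegral R (y • r) := isIntegral_trans (y • r) hy
  refine ⟨IsLocalization.mk' F (⟨y • r, hyR⟩ : B) ⟨y, mem_nonZeroDivisors_of_ne_zero hy0⟩, j.injective ?_⟩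
  have hval : j (IsLocalization.mk' F (⟨y • r, hyR⟩ : B) ⟨y, mem_nonZeroDivisors_of_ne_zero hy0⟩) = r := by
    show IsFractionRing.lift _ _ = r
    rw [IsFractionRing.lift_mk']
    show (y • r : K) / (y : K) = r
    rw [Algebra.smul_def]
    exact mul_div_cancel_left₀ r (fun h => hy0 (Subtype.ext h))
  rw [map_zero, ← Polynomial.eval_map_apply, hval]
  exact hr

theorem isStrictlyHenselian_localization [IsSepClosed K] (p : Ideal (integralClosure R K)) [p.IsPrime] :
    EtCoh.IsStrictlyHenselianLocalRing (Localization.AtPrime p) := by
  haveI := isIntegrallyClosed_closure (R := R) (K := K)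
  haveI := isSepClosed_fractionRing_closure (R := R) (K := K)
  have hle : p.primeCompl ≤ nonZeroDivisors (integralClosure R K) := p.primeCompl_le_nonZeroDivisors
  haveI : IsDomain (Localization.AtPrime p) :=
    IsLocalization.isDomain_localization hle
  haveI : IsIntegrallyClosed (Localization.AtPrime p) :=
    isIntegrallyClosed_of_isLocalization _ p.primeCompl hle
  letI : Algebra (Localization.AtPrime p) (FractionRing (integralClosure R K)) :=
    IsLocalization.localizationAlgebraOfSubmonoidLe _ _ p.primeCompl (nonZeroDivisors _) hle
  haveI : IsScalarTower (integralClosure R K) (Localization.AtPrime p) (FractionRing (integralClosure R K)) :=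
    IsLocalization.localization_isScalarTower_of_submonoid_le _ _ _ _ hle
  haveI : IsFractionRing (Localization.AtPrime p) (FractionRing (integralClosure R K)) :=
    IsFractionRing.isFractionRing_of_isDomain_of_isLocalization p.primeCompl _ _
  exact GrothLib.EtBasicB.isStrictlyHenselian_of_sepClosed _ (FractionRing (integralClosure R K))

end Algebra

theorem isSepClosed_of_ringEquiv {K L : Type u} [Field K] [Field L] (e : K ≃+* L) [IsSepClosed L] :
    IsSepClosed K :=
  IsSepClosed.of_exists_root _ fun p hp hirr hsep => by
    obtain ⟨r, hr⟩ := IsSepClosed.exists_root (p.map e.toRingHom)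
      (by rw [Polynomial.degree_map]; exact (Irreducible.degree_pos hirr).ne') hsep.map
    refine ⟨e.symm r, e.injective ?_⟩
    rw [map_zero, ← e.coe_toRingHom, ← Polynomial.eval_map_apply]
    simpa using hr

/-- Strictly henselian local rings on the normalization in a geometric point. -/
theorem stalk_normalization {X : Scheme.{u}} {Ω : Type u} [Field Ω] [IsSepClosed Ω]
    (η : Spec (CommRingCat.of Ω) ⟶ X) [QuasiCompact η] [QuasiSeparated η] (y : η.normalization) :
    EtCoh.IsStrictlyHenselianLocalRing (η.normalization.presheaf.stalk y) := by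
  obtain ⟨U, hU, hyU, -⟩ := exists_isAffineOpen_mem_and_subset (x := η.fromNormalization.base y) (U := ⊤) trivial
  let P := η.fromNormalization ⁻¹ᵁ U
  have hP : IsAffineOpen P := hU.preimage η.fromNormalization
  letI := (η.app U).hom.toAlgebra
  have htop : η ⁻¹ᵁ U = ⊤ := by
    refine top_le_iff.1 fun z _ => ?_
    have hη : genericPoint η.normalization ∈ P :=
      ((genericPoint_spec η.normalization).mem_open_set_iff P.isOpen).2 ⟨y, trivial, hyU⟩
    have hgen : η.toNormalization.base z = genericPoint η.normalization := by
      refine (IsGenericPoint.eq ?_ (genericPoint_spec η.normalization))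
      show closure {η.toNormalization.base z} = ⊤
      have h := η.toNormalization.denseRange.closure_range
      rwa [show Set.range η.toNormalization.base = {η.toNormalization.base z} from
        Set.eq_singleton_iff_unique_mem.2 ⟨⟨z, rfl⟩, by
          rintro _ ⟨z', rfl⟩; rw [Subsingleton.elim z' z]⟩] at h
    show η.base z ∈ U
    rw [← η.toNormalization_fromNormalization]
    show η.fromNormalization.base (η.toNormalization.base z) ∈ U
    rw [hgen]; exact hη
  let e : Γ(Spec (CommRingCat.of Ω), η ⁻¹ᵁ U) ≃+* Ω :=
    ((Spec (CommRingCat.of Ω)).presheaf.mapIso (eqToIso htop.symm).op ≪≫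
      Scheme.ΓSpecIso (CommRingCat.of Ω)).commRingCatIsoToRingEquiv
  letI : Field Γ(Spec (CommRingCat.of Ω), η ⁻¹ᵁ U) := (MulEquiv.isField (Field.toIsField Ω) e.toMulEquiv).toField
  haveI := isSepClosed_of_ringEquiv e
  let B := integralClosure Γ(X, U) Γ(Spec (CommRingCat.of Ω), η ⁻¹ᵁ U)
  let eB : Γ(η.normalization, P) ≃+* B := (η.normalizationObjIso hU).commRingCatIsoToRingEquiv
  let q : Ideal Γ(η.normalization, P) := (hP.primeIdealOf ⟨y, hyU⟩).asIdeal
  let p : Ideal B := q.comap eB.symm.toRingHom
  haveI : p.IsPrime := Ideal.IsPrime.comap _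
  letI := TopCat.Presheaf.algebra_section_stalk η.normalization.presheaf (⟨y, hyU⟩ : P)
  haveI := hP.isLocalization_stalk ⟨y, hyU⟩
  have hmap : q.primeCompl.map eB.toRingHom.toMonoidHom = p.primeCompl := by
    ext b
    constructor
    · rintro ⟨a, ha, rfl⟩
      intro h
      refine ha ?_
      have : eB.symm (eB a) ∈ q := h
      rwa [RingEquiv.symm_apply_apply] at this
    · intro hb
      exact ⟨eB.symm b, hb, eB.apply_symm_apply b⟩
  let eL : η.normalization.presheaf.stalk y ≃+* Localization.AtPrime p :=
    IsLocalization.ringEquivOfRingEquiv (M := q.primeCompl) (T := p.primeCompl) _ _ eB hmap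
  exact GrothLib.WLocal.strictlyHenselian_of_ringEquiv eL.symm (isStrictlyHenselian_localization p)

/-- The normalization in a geometric point. -/
theorem exists_sepNorm {X : Scheme.{u}} [QuasiSeparatedSpace X] {Ω : Type u} [Field Ω] [IsSepClosed Ω]
    (η : Spec (CommRingCat.of Ω) ⟶ X) :
    ∃ (Y : Scheme.{u}) (_ : IsIntegral Y) (ν : Y ⟶ X) (ξ : Spec (CommRingCat.of Ω) ⟶ Y), IsIntegralHom ν ∧
      ξ ≫ ν = η ∧ ξ.base default = genericPoint Y ∧
      ∀ y : Y, EtCoh.IsStrictlyHenselianLocalRing (Y.presheaf.stalk y) := by
  haveI : QuasiCompact η := quasiCompact_of_compactSpace η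
  haveI : QuasiSeparated η := inferInstance
  refine ⟨η.normalization, inferInstance, η.fromNormalization, η.toNormalization, inferInstance,
    η.toNormalization_fromNormalization, ?_, stalk_normalization η⟩
  refine (IsGenericPoint.eq ?_ (genericPoint_spec η.normalization))
  show closure {η.toNormalization.base default} = ⊤
  have h := η.toNormalization.denseRange.closure_range
  rwa [show Set.range η.toNormalization.base = {η.toNormalization.base default} from
    Set.eq_singleton_iff_unique_mem.2 ⟨⟨default, rfl⟩, by
      rintro _ ⟨z', rfl⟩; rw [Subsingleton.elim z' default]⟩] at h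

end GrothLib.PropH0
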