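import Groth.Agent.Lib.PropH0.Spectral
import Groth.Agent.Lib.PropH0.SepNorm
import Groth.Agent.Lib.PropH0.Basic
import Groth.Agent.Lib.EtSec.Basic

/-!
# Restriction of etale sections to a closed subscheme meeting every integral cover connectedly

For a quasi-compact quasi-separated scheme `X` and a closed subscheme `Z` whose preimage in every
irreducible scheme integral over `X` is connected, global sections of an etale sheaf of sets on `X`
are the same as the sections of its restriction to `Z`.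
-/

set_option autoImplicit false
universe u

open CategoryTheory CategoryTheory.Limits AlgebraicGeometry Opposite TopologicalSpace
open GrothLib.EtSite GrothLib.EtSec

set_option backward.isDefEq.respectTransparency.types false

noncomputable section

namespace GrothLib.PropH0

section Topology

open Topology

variable {X Y : Type u} [TopologicalSpace X] [TopologicalSpace Y]

theorem cClosed_preimage {f : X → Y} (hf : IsSpectralMap f) {s : Set Y} (hs : CClosed s) :
    CClosed (f ⁻¹' s) := by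
  refine @IsClosed.preimage _ _ (constructibleTopology X) (constructibleTopology Y) f
    (continuous_generateFrom_iff.2 fun t ht => ?_) s hs
  rcases ht with ⟨ho, hc⟩ | ⟨hcl, hc⟩
  · exact (hf.2 ho hc).isOpen_constructibleTopology_of_isOpen (ho.preimage hf.continuous)
  · exact IsCompact.isOpen_constructibleTopology_of_isClosed
      (by rw [← Set.preimage_compl]; exact hf.2 hcl.isOpen_compl hc) (hcl.preimage hf.continuous)

/-- Points in the closure of the image of a constructibly closed set are specializations of it. -/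
theorem exists_specializes_image [SpectralSpace X] [SpectralSpace Y] {f : X → Y} (hf : IsSpectralMap f)
    {D : Set X} (hD : CClosed D) {y : Y} (hy : y ∈ closure (f '' D)) : ∃ d ∈ D, f d ⤳ y := by
  let ι := {U : Set Y // (IsOpen U ∧ IsCompact U) ∧ y ∈ U}
  have hb : ∀ O : Set Y, IsOpen O → y ∈ O → ∃ U : ι, U.1 ⊆ O := fun O hO hyO => by
    obtain ⟨U, hU, hyU, hUO⟩ := PrespectralSpace.isTopologicalBasis.exists_subset_of_mem_open hyO hO
    exact ⟨⟨U, hU, hyU⟩, hUO⟩
  haveI : Nonempty ι := ⟨(hb Set.univ isOpen_univ trivial).choose⟩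
  obtain ⟨d, hd⟩ := nonempty_iInter (fun U : ι => f ⁻¹' U.1 ∩ D) (fun U V => by
      obtain ⟨W, hW⟩ := hb (U.1 ∩ V.1) (U.2.1.1.inter V.2.1.1) ⟨U.2.2, V.2.2⟩
      exact ⟨W, Set.inter_subset_inter_left _ (Set.preimage_mono (hW.trans Set.inter_subset_left)),
        Set.inter_subset_inter_left _ (Set.preimage_mono (hW.trans Set.inter_subset_right))⟩)
    (fun U => (cClosed_of_isCompact_of_isOpen (hf.2 U.2.1.1 U.2.1.2) (U.2.1.1.preimage hf.continuous)).inter hD)
    (fun U => by
      obtain ⟨_, hU, d, hd, rfl⟩ := mem_closure_iff.1 hy _ U.2.1.1 U.2.2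
      exact ⟨d, hU, hd⟩)
  obtain ⟨U₀⟩ := ‹Nonempty ι›
  refine ⟨d, (Set.mem_iInter.1 hd U₀).2, specializes_iff_forall_open.2 fun O hO hyO => ?_⟩
  obtain ⟨U, hU⟩ := hb O hO hyO
  exact hU (Set.mem_iInter.1 hd U).1

end Topology

variable {X Z : Scheme.{u}} (i : Z ⟶ X)

/-- The preimage of `Z` in every irreducible scheme integral over `X` is connected. -/
def ConnOnIntegral : Prop :=
  ∀ (Y : Scheme.{u}) (ν : Y ⟶ X) [IsIntegralHom ν] [IrreducibleSpace Y],
    _root_.IsConnected (ν.base ⁻¹' Set.range i.base)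

variable {i}

theorem exists_specializes_range (hi : ConnOnIntegral i) (x : X) : ∃ z ∈ Set.range i.base, x ⤳ z := by
  obtain ⟨Y, j, hj, hY, hr⟩ :=
    exists_irreducible_subscheme (X := X) (W := closure {x}) isIrreducible_singleton.closure isClosed_closure
  obtain ⟨y, hy⟩ := (hi Y j).nonempty
  exact ⟨_, hy, specializes_iff_mem_closure.2 (hr.subset ⟨y, rfl⟩)⟩

variable (i)

theorem exists_lift_closedImmersion [IsClosedImmersion i] {K : Type u} [Field K]
    (r : Spec (CommRingCat.of K) ⟶ X) (h : r.base default ∈ Set.range i.base) :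
    ∃ p : Spec (CommRingCat.of K) ⟶ Z, p ≫ i = r := by
  obtain ⟨z, hz⟩ := h
  obtain ⟨a, -, ha⟩ := Scheme.Pullback.exists_preimage_pullback (f := i) (g := r) z default hz
  haveI : Surjective (pullback.snd i r) := ⟨fun b => ⟨a, Subsingleton.elim _ _⟩⟩
  haveI : IsIso (pullback.snd i r) := isIso_of_isClosedImmersion_of_surjective _
  refine ⟨inv (pullback.snd i r) ≫ pullback.fst i r, ?_⟩
  rw [Category.assoc, pullback.condition, IsIso.inv_hom_id_assoc]

variable {F : EtDesc.Sh X}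

/-- The injectivity of restriction to `Z`. -/
theorem restrict_injective (hi : ConnOnIntegral i) :
    Function.Injective (fun σ : Secs (𝟙 X) F => σ.res i (Category.comp_id i)) := by
  intro σ τ h
  refine Secs.eq_of_eqLocus σ τ fun x => ?_
  obtain ⟨_, ⟨z, rfl⟩, hxz⟩ := exists_specializes_range hi x
  refine hxz.mem_open (Secs.isOpen_eqLocus σ τ) ?_
  rw [← Secs.mem_eqLocus_res i (Category.comp_id i) σ τ z, Secs.eqLocus_eq_univ h]
  trivial

/-- An etale section having the prescribed values over `Z`. -/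
def Good (σ₀ : Secs i F) (W : X.Etale) (t : EtDesc.sect F W) : Prop :=
  ∀ (Ω : Type u) [Field Ω] [IsSepClosed Ω] (p : Spec (CommRingCat.of Ω) ⟶ Z)
    (l : Spec (CommRingCat.of Ω) ⟶ W.left) (η : Spec (CommRingCat.of Ω) ⟶ X)
    (hp : p ≫ i = η) (hl : l ≫ W.hom = η), σ₀.val Ω p η hp = gSh F l hl t

/-- The part of an etale scheme over `Z`. -/
def overZ (W : X.Etale) : Set W.left := W.hom.base ⁻¹' Set.range i.base

variable [IsClosedImmersion i]

theorem exists_good (σ₀ : Secs i F) (z : Z) :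
    ∃ (W : X.Etale) (t : EtDesc.sect F W) (w : W.left),
      Good i σ₀ W t ∧ W.hom.base w = i.base z ∧ IsAffine W.left := by
  obtain ⟨Ω, _, _, p, rfl⟩ := Secs.exists_point z
  obtain ⟨V, v, hv, p', W, m, hm, t, hp', ht⟩ := σ₀.exists_rep p
  let sp : pullback i W.hom ⟶ W.left := pullback.snd i W.hom
  haveI : IsClosedImmersion sp := MorphismProperty.pullback_snd i W.hom ‹_›
  let σa : Secs (pullback.fst i W.hom ≫ i) F := σ₀.res (pullback.fst i W.hom) rfl
  let τa : Secs (pullback.fst i W.hom ≫ i) F :=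
    Secs.ofSect (pullback.snd i W.hom) pullback.condition.symm t
  let c : Spec (CommRingCat.of Ω) ⟶ pullback i W.hom := pullback.lift (p' ≫ v) (p' ≫ m)
    (((Category.assoc p' m W.hom).trans ((congrArg (p' ≫ ·) hm).trans (Category.assoc p' v i).symm)).symm)
  let O : W.left.Opens :=
    ⟨(sp.base '' (Secs.eqLocus σa τa)ᶜ)ᶜ, (sp.isClosedMap _ (Secs.isOpen_eqLocus σa τa).isClosed_compl).isOpen_compl⟩
  have hc : c.base default ∈ Secs.eqLocus σa τa := by
    refine (Secs.mem_eqLocus_iff σa τa c (c ≫ pullback.fst i W.hom ≫ i) rfl).2 ?_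
    have h' : (p' ≫ v) ≫ i = c ≫ pullback.fst i W.hom ≫ i := by
      rw [← Category.assoc c, pullback.lift_fst]
    rw [Secs.res_val, Secs.ofSect_val]
    refine (σ₀.val_congr (pullback.lift_fst _ _ _) _ h').trans ((ht Ω p' _ h').trans ?_)
    exact gSh_congr (pullback.lift_snd _ _ _).symm _ _ t
  have hwO : sp.base (c.base default) ∈ O := by
    rintro ⟨c', hc', e⟩
    exact hc' (sp.isClosedEmbedding.injective e ▸ hc)
  obtain ⟨N, hN, hwN, hNO⟩ := exists_isAffineOpen_mem_and_subset hwO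
  haveI : Etale W.hom := W.prop
  let W' : X.Etale := Scheme.Etale.mk (N.ι ≫ W.hom)
  let r : W' ⟶ W := MorphismProperty.Over.homMk N.ι
  refine ⟨W', F.obj.map r.op t, ⟨_, hwN⟩, fun Ω' _ _ q l η hq hl => ?_, ?_, hN⟩
  · have hl' : (l ≫ N.ι) ≫ W.hom = η := (Category.assoc l N.ι W.hom).trans hl
    let cq : Spec (CommRingCat.of Ω') ⟶ pullback i W.hom := pullback.lift q (l ≫ N.ι) (hq.trans hl'.symm)
    have hmem : cq.base default ∈ Secs.eqLocus σa τa := by
      by_contra hne
      refine (hNO (l.base default).2) ⟨_, hne, ?_⟩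
      show (cq ≫ pullback.snd i W.hom).base default = _
      rw [pullback.lift_snd]
      rfl
    have hη : cq ≫ pullback.fst i W.hom ≫ i = η := by rw [← Category.assoc, pullback.lift_fst, hq]
    have e := (Secs.mem_eqLocus_iff σa τa cq η hη).1 hmem
    rw [Secs.res_val, Secs.ofSect_val] at e
    exact (σ₀.val_congr (pullback.lift_fst _ _ _).symm _ _).trans (e.trans
      ((gSh_congr (pullback.lift_snd _ _ _) _ hl' t).trans (gSh_map r l hl hl' t).symm))
  · show (pullback.snd i W.hom ≫ W.hom).base (c.base default) = _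
    rw [← pullback.condition]
    show (c ≫ pullback.fst i W.hom ≫ i).base default = (p ≫ i).base default
    rw [← Category.assoc, pullback.lift_fst, hp']

section OnCover

variable {Ω : Type u} [Field Ω] [IsSepClosed Ω] {η : Spec (CommRingCat.of Ω) ⟶ X} {Y : Scheme.{u}}
  [IsIntegral Y] (ν : Y ⟶ X) (ξ : Spec (CommRingCat.of Ω) ⟶ Y) (hξ : ξ ≫ ν = η)
  (hsh : ∀ y : Y, EtCoh.IsStrictlyHenselianLocalRing (Y.presheaf.stalk y))

/-- The points of `Y` near which some good section has the value `v` at the generic point. -/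
def valSet (σ₀ : Secs i F) (v : (stalkSh η).obj F) : Set Y :=
  {y | ∃ (W : X.Etale) (t : EtDesc.sect F W) (_ : Good i σ₀ W t) (U : Y.Opens) (_ : y ∈ U)
    (s : U.toScheme ⟶ W.left) (hs : s ≫ W.hom = U.ι ≫ ν) (ξU : Spec (CommRingCat.of Ω) ⟶ U.toScheme)
    (hU : ξU ≫ U.ι = ξ),
      gSh F (ξU ≫ s) ((Category.assoc ξU s W.hom).trans ((congrArg (ξU ≫ ·) hs).trans
        ((Category.assoc ξU U.ι ν).symm.trans ((congrArg (· ≫ ν) hU).trans hξ)))) t = v}

omit [IsClosedImmersion i] in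
theorem isOpen_valSet (σ₀ : Secs i F) (v : (stalkSh η).obj F) : IsOpen (valSet i ν ξ hξ σ₀ v) := by
  refine isOpen_iff_forall_mem_open.2 ?_
  rintro y ⟨W, t, hg, U, hy, rest⟩
  exact ⟨U, fun y' hy' => ⟨W, t, hg, U, hy', rest⟩, U.isOpen, hy⟩

variable (hgen : ξ.base default = genericPoint Y)
include hgen

theorem valSet_unique (σ₀ : Secs i F) {v v' : (stalkSh η).obj F} {y : Y}
    (hy : y ∈ valSet i ν ξ hξ σ₀ v) (hy' : y ∈ valSet i ν ξ hξ σ₀ v')
    (hyZ : ν.base y ∈ Set.range i.base) : v = v' := by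
  obtain ⟨W, t, hg, U, hyU, s, hs, ξU, hU, rfl⟩ := hy
  obtain ⟨W', t', hg', U', hyU', s', hs', ξU', hU', rfl⟩ := hy'
  let a : (U ⊓ U').toScheme ⟶ U.toScheme := Y.homOfLE inf_le_left
  let a' : (U ⊓ U').toScheme ⟶ U'.toScheme := Y.homOfLE inf_le_right
  have ha : a ≫ U.ι = (U ⊓ U').ι := Y.homOfLE_ι _
  have ha' : a' ≫ U'.ι = (U ⊓ U').ι := Y.homOfLE_ι _
  let σa : Secs ((U ⊓ U').ι ≫ ν) F := Secs.ofSect (a ≫ s)
    ((Category.assoc a s W.hom).trans ((congrArg (a ≫ ·) hs).trans ((Category.assoc a U.ι ν).symm.trans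
      (congrArg (· ≫ ν) ha)))) t
  let τa : Secs ((U ⊓ U').ι ≫ ν) F := Secs.ofSect (a' ≫ s')
    ((Category.assoc a' s' W'.hom).trans ((congrArg (a' ≫ ·) hs').trans ((Category.assoc a' U'.ι ν).symm.trans
      (congrArg (· ≫ ν) ha')))) t'
  obtain ⟨Ω', _, _, q, hq⟩ := Secs.exists_point (Z := (U ⊓ U').toScheme) ⟨y, hyU, hyU'⟩
  obtain ⟨qZ, hqZ⟩ := exists_lift_closedImmersion i (q ≫ (U ⊓ U').ι ≫ ν) (by
    show ν.base ((U ⊓ U').ι.base (q.base default)) ∈ _
    rw [hq]; exact hyZ)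
  have hmem : q.base default ∈ Secs.eqLocus σa τa := by
    refine (Secs.mem_eqLocus_iff σa τa q _ rfl).2 ?_
    rw [Secs.ofSect_val, Secs.ofSect_val]
    exact (hg Ω' qZ _ _ hqZ _).symm.trans (hg' Ω' qZ _ _ hqZ _)
  have hξmem : ξ.base default ∈ U ⊓ U' := by
    rw [hgen]
    exact ((genericPoint_spec Y).mem_open_set_iff (U ⊓ U').isOpen).2 ⟨y, trivial, hyU, hyU'⟩
  obtain ⟨r, hr⟩ : ∃ r : Spec (CommRingCat.of Ω) ⟶ (U ⊓ U').toScheme, r ≫ (U ⊓ U').ι = ξ :=
    ⟨IsOpenImmersion.lift (U ⊓ U').ι ξ (by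
      rw [Scheme.Opens.range_ι]; rintro _ ⟨b, rfl⟩; rw [Subsingleton.elim b default]; exact hξmem),
      IsOpenImmersion.lift_fac _ _ _⟩
  have hr2 : r.base default ∈ Secs.eqLocus σa τa := by
    have hsp : r.base default ⤳ q.base default := by
      refine (U ⊓ U').ι.isOpenEmbedding.toIsInducing.specializes_iff.1 ?_
      show (r ≫ (U ⊓ U').ι).base default ⤳ _
      rw [hr, hgen]
      exact genericPoint_specializes _
    exact hsp.mem_open (Secs.isOpen_eqLocus σa τa) hmem
  have e := (Secs.mem_eqLocus_iff σa τa r η (by rw [← Category.assoc, hr, hξ])).1 hr2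
  rw [Secs.ofSect_val, Secs.ofSect_val] at e
  have e₁ : ξU = r ≫ a := by
    rw [← cancel_mono U.ι, Category.assoc, ha, hr, hU]
  have e₂ : ξU' = r ≫ a' := by
    rw [← cancel_mono U'.ι, Category.assoc, ha', hr, hU']
  exact (gSh_congr ((congrArg (· ≫ s) e₁).trans (Category.assoc r a s)) _ _ t).trans (e.trans
    (gSh_congr ((congrArg (· ≫ s') e₂).trans (Category.assoc r a' s')).symm _ _ t'))

include hsh

omit [IsClosedImmersion i] in
theorem exists_valSet (σ₀ : Secs i F) {W : X.Etale} {t : EtDesc.sect F W} (hg : Good i σ₀ W t)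
    (y : Y) (w : W.left) (h : W.hom.base w = ν.base y) : ∃ v, y ∈ valSet i ν ξ hξ σ₀ v := by
  haveI : Etale W.hom := W.prop
  haveI : Etale (pullback.snd W.hom ν) := MorphismProperty.pullback_snd W.hom ν W.prop
  haveI := GrothLib.EtBasicB.isLocalIso_of_etale hsh (pullback.snd W.hom ν)
  obtain ⟨P, -, hPy⟩ := Scheme.Pullback.exists_preimage_pullback (f := W.hom) (g := ν) w y h
  obtain ⟨O, hPO, hO⟩ := IsLocalIso.exists_isOpenImmersion (f := pullback.snd W.hom ν) P
  let g := O.ι ≫ pullback.snd W.hom ν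
  have hyU : y ∈ g.opensRange := ⟨⟨P, hPO⟩, hPy⟩
  have hξU : ξ.base default ∈ g.opensRange := by
    rw [hgen]
    exact ((genericPoint_spec Y).mem_open_set_iff g.opensRange.isOpen).2 ⟨y, trivial, hyU⟩
  refine ⟨_, W, t, hg, g.opensRange, hyU, g.isoOpensRange.inv ≫ O.ι ≫ pullback.fst W.hom ν, ?_,
    IsOpenImmersion.lift g.opensRange.ι ξ (by
      rw [Scheme.Opens.range_ι]; rintro _ ⟨b, rfl⟩; rw [Subsingleton.elim b default]; exact hξU),
    IsOpenImmersion.lift_fac _ _ _, rfl⟩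
  rw [Category.assoc, Category.assoc, pullback.condition, ← Category.assoc O.ι, ← Category.assoc,
    Scheme.Hom.isoOpensRange_inv_comp]

omit [IsClosedImmersion i] in
theorem exists_mem_valSet_gSh [IsIntegralHom ν] (σ₀ : Secs i F) {W : X.Etale} {t : EtDesc.sect F W}
    (hg : Good i σ₀ W t) (q : Spec (CommRingCat.of Ω) ⟶ W.left) (hq : q ≫ W.hom = η)
    (hqg : q.base default ∈ gen (overZ i W)) :
    ∃ y : Y, ν.base y ∈ Set.range i.base ∧ y ∈ valSet i ν ξ hξ σ₀ (gSh F q hq t) := by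
  obtain ⟨w, hw, hqw⟩ := hqg
  haveI : Etale W.hom := W.prop
  haveI : Etale (pullback.snd W.hom ν) := MorphismProperty.pullback_snd W.hom ν W.prop
  haveI := GrothLib.EtBasicB.isLocalIso_of_etale hsh (pullback.snd W.hom ν)
  let fW : pullback W.hom ν ⟶ W.left := pullback.fst W.hom ν
  haveI : IsIntegralHom fW := MorphismProperty.pullback_fst W.hom ν ‹_›
  let c : Spec (CommRingCat.of Ω) ⟶ pullback W.hom ν := pullback.lift q ξ (hq.trans hξ.symm)
  have hcl : w ∈ fW.base '' closure {c.base default} := by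
    refine hqw.mem_closed (fW.isClosedMap _ isClosed_closure) ⟨_, subset_closure rfl, ?_⟩
    show (c ≫ pullback.fst W.hom ν).base default = _
    rw [pullback.lift_fst]
  obtain ⟨P, hP, rfl⟩ := hcl
  have hcP : c.base default ⤳ P := specializes_iff_mem_closure.2 hP
  obtain ⟨O, hPO, hO⟩ := IsLocalIso.exists_isOpenImmersion (f := pullback.snd W.hom ν) P
  let g := O.ι ≫ pullback.snd W.hom ν
  have hcO : c.base default ∈ O := hcP.mem_open O.isOpen hPO
  obtain ⟨cO, hcOe⟩ : ∃ cO : Spec (CommRingCat.of Ω) ⟶ O.toScheme, cO ≫ O.ι = c :=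
    ⟨IsOpenImmersion.lift O.ι c (by
      rw [Scheme.Opens.range_ι]; rintro _ ⟨b, rfl⟩; rw [Subsingleton.elim b default]; exact hcO),
      IsOpenImmersion.lift_fac _ _ _⟩
  refine ⟨(pullback.snd W.hom ν).base P, ?_, W, t, hg, g.opensRange, ⟨⟨P, hPO⟩, rfl⟩,
    g.isoOpensRange.inv ≫ O.ι ≫ pullback.fst W.hom ν, ?_, cO ≫ g.isoOpensRange.hom, ?_, gSh_congr ?_ _ _ t⟩
  · show (pullback.snd W.hom ν ≫ ν).base P ∈ _
    rw [← pullback.condition]
    exact hw
  · rw [Category.assoc, Category.assoc, pullback.condition, ← Category.assoc O.ι, ← Category.assoc,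
      Scheme.Hom.isoOpensRange_inv_comp]
  · rw [Category.assoc, Scheme.Hom.isoOpensRange_hom_ι, ← Category.assoc, hcOe, pullback.lift_snd]
  · rw [Category.assoc, Iso.hom_inv_id_assoc, ← Category.assoc, hcOe, pullback.lift_fst]

end OnCover

variable [CompactSpace X] [QuasiSeparatedSpace X]

/-- Good sections agree at all generalizations of the points over `Z`. -/
theorem gSh_eq_of_gen (hi : ConnOnIntegral i) (σ₀ : Secs i F) {W W' : X.Etale} {t : EtDesc.sect F W}
    {t' : EtDesc.sect F W'} (hg : Good i σ₀ W t) (hg' : Good i σ₀ W' t') {Ω : Type u} [Field Ω] [IsSepClosed Ω]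
    {η : Spec (CommRingCat.of Ω) ⟶ X} (q : Spec (CommRingCat.of Ω) ⟶ W.left) (hq : q ≫ W.hom = η)
    (q' : Spec (CommRingCat.of Ω) ⟶ W'.left) (hq' : q' ≫ W'.hom = η)
    (hqg : q.base default ∈ gen (overZ i W)) (hqg' : q'.base default ∈ gen (overZ i W')) :
    gSh F q hq t = gSh F q' hq' t' := by
  obtain ⟨Y, hY, ν, ξ, hν, hξ, hgen, hsh⟩ := exists_sepNorm η
  obtain ⟨y, hyZ, hy⟩ := exists_mem_valSet_gSh i ν ξ hξ hsh hgen σ₀ hg q hq hqg
  obtain ⟨y', hyZ', hy'⟩ := exists_mem_valSet_gSh i ν ξ hξ hsh hgen σ₀ hg' q' hq' hqg'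
  by_contra hne
  let S := valSet i ν ξ hξ σ₀ (gSh F q hq t)
  let T : Set Y := ⋃ v ∈ {v | v ≠ gSh F q hq t}, valSet i ν ξ hξ σ₀ v
  obtain ⟨y₀, hy₀, h₁, h₂⟩ := (hi Y ν).isPreconnected S T (isOpen_valSet i ν ξ hξ σ₀ _)
    (isOpen_biUnion fun v _ => isOpen_valSet i ν ξ hξ σ₀ v) (fun z hz => by
      obtain ⟨z₀, hz₀⟩ := hz
      obtain ⟨W₀, t₀, w₀, hg₀, hw₀, -⟩ := exists_good i σ₀ z₀
      obtain ⟨v, hv⟩ := exists_valSet i ν ξ hξ hsh hgen σ₀ hg₀ z w₀ (hw₀.trans hz₀)
      by_cases hvv : v = gSh F q hq t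
      · exact Or.inl (by subst hvv; exact hv)
      · exact Or.inr (Set.mem_biUnion hvv hv)) ⟨y, hyZ, hy⟩
    ⟨y', hyZ', Set.mem_biUnion (fun h : _ = _ => hne h.symm) hy'⟩
  obtain ⟨v, hv, h₂⟩ := Set.mem_iUnion₂.1 h₂
  exact hv (valSet_unique i ν ξ hξ hgen σ₀ h₂ h₁ hy₀)

/-- The surjectivity of restriction to `Z`. -/
theorem restrict_surjective (hi : ConnOnIntegral i) :
    Function.Surjective (fun σ : Secs (𝟙 X) F => σ.res i (Category.comp_id i)) := by
  intro σ₀
  classical
  choose W t w hg hw hWaff using fun z => exists_good i σ₀ z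
  haveI : CompactSpace Z := QuasiCompact.compactSpace_of_compactSpace i
  obtain ⟨T, hT⟩ := isCompact_univ.elim_finite_subcover
    (fun z => i.base ⁻¹' Set.range (W z).hom.base)
    (fun z => (haveI : Etale (W z).hom := (W z).prop; (W z).hom.isOpenMap.isOpen_range).preimage i.continuous)
    (fun z _ => Set.mem_iUnion.2 ⟨z, w z, hw z⟩)
  have hex : ∀ (Ω : Type u) [Field Ω] [IsSepClosed Ω] (η : Spec (CommRingCat.of Ω) ⟶ X),
      ∃ (k : T) (l : Spec (CommRingCat.of Ω) ⟶ (W k.1).left) (_ : l ≫ (W k.1).hom = η),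
        l.base default ∈ gen (overZ i (W k.1)) := by
    intro Ω _ _ η
    obtain ⟨_, ⟨z, rfl⟩, hxz⟩ := exists_specializes_range hi (η.base default)
    obtain ⟨k, hk, w', hw'⟩ := Set.mem_iUnion₂.1 (hT (Set.mem_univ z))
    haveI : Etale (W k).hom := (W k).prop
    obtain ⟨c, hcw, hc⟩ := Flat.generalizingMap (W k).hom (hw'.symm ▸ hxz : η.base default ⤳ (W k).hom.base w')
    obtain ⟨l, hl, hlc⟩ := exists_lift (W k).hom η c hc
    exact ⟨⟨k, hk⟩, l, hl, w', ⟨z, hw'.symm⟩, hlc.symm ▸ hcw⟩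
  choose k l hl hlg using hex
  let val : PtFun (𝟙 X) F := fun Ω _ _ p η h =>
    gSh F (l Ω p) ((hl Ω p).trans ((Category.comp_id p).symm.trans h)) (t (k Ω p).1)
  have key : ∀ {W' : X.Etale} {t' : EtDesc.sect F W'}, Good i σ₀ W' t' →
      ∀ (Ω : Type u) [Field Ω] [IsSepClosed Ω] (p η : Spec (CommRingCat.of Ω) ⟶ X) (h : p ≫ 𝟙 X = η)
        (q : Spec (CommRingCat.of Ω) ⟶ W'.left) (hq : q ≫ W'.hom = η),
        q.base default ∈ gen (overZ i W') → val Ω p η h = gSh F q hq t' := by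
    intro W' t' hg' Ω _ _ p η h q hq hqg
    exact gSh_eq_of_gen i hi σ₀ (hg _) hg' _ _ q hq (hlg Ω p) hqg
  refine ⟨⟨val, fun x => ?_⟩, ?_⟩
  · obtain ⟨Ω, _, _, p, rfl⟩ := Secs.exists_point x
    let K : T := k Ω p
    let W₀ : X.Etale := W K.1
    haveI : IsAffine W₀.left := hWaff _
    haveI : ∀ j : T, IsAffine (W j.1).left := fun j => hWaff _
    haveI : ∀ j : T, CompactSpace (W j.1).left := fun j => (inferInstanceAs (CompactSpace (W j.1).left))
    haveI : ∀ j : T, SpectralSpace ↥(W j.1).left := fun j => {}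
    haveI : SpectralSpace ↥W₀.left := {}
    haveI : CompactSpace ↥((𝟭 Scheme.{u}).obj W₀.left) := inferInstanceAs (CompactSpace ↥W₀.left)
    haveI : QuasiSeparatedSpace ↥((𝟭 Scheme.{u}).obj W₀.left) := inferInstanceAs (QuasiSeparatedSpace ↥W₀.left)
    haveI : SpectralSpace ↥((𝟭 Scheme.{u}).obj W₀.left) := inferInstanceAs (SpectralSpace ↥W₀.left)
    haveI : ∀ j : T, CompactSpace ↥((𝟭 Scheme.{u}).obj (W j.1).left) := fun j =>
      inferInstanceAs (CompactSpace ↥(W j.1).left)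
    haveI : ∀ j : T, QuasiSeparatedSpace ↥((𝟭 Scheme.{u}).obj (W j.1).left) := fun j =>
      inferInstanceAs (QuasiSeparatedSpace ↥(W j.1).left)
    haveI : ∀ j : T, SpectralSpace ↥((𝟭 Scheme.{u}).obj (W j.1).left) := fun j =>
      inferInstanceAs (SpectralSpace ↥(W j.1).left)
    haveI : ∀ V : X.Etale, QuasiSeparatedSpace ↥((Functor.fromPUnit X).obj V.right) := fun _ =>
      inferInstanceAs (QuasiSeparatedSpace ↥X)
    haveI this' : ∀ j : T, QuasiCompact (W j.1).hom := fun j => quasiCompact_of_compactSpace _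
    haveI : QuasiCompact W₀.hom := quasiCompact_of_compactSpace _
    haveI : QuasiSeparated W₀.hom := QuasiSeparated.of_quasiSeparatedSpace _
    haveI : ∀ j : T, QuasiSeparated (W j.1).hom := fun j => QuasiSeparated.of_quasiSeparatedSpace _
    haveI : ∀ j : T, QuasiCompact (pullback.fst W₀.hom (W j.1).hom) := fun j =>
      MorphismProperty.pullback_fst _ _ (this' j)
    haveI : ∀ j : T, QuasiCompact (pullback.snd W₀.hom (W j.1).hom) := fun j =>
      MorphismProperty.pullback_snd _ _ ‹QuasiCompact W₀.hom›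
    haveI : ∀ j : T, QuasiSeparated (pullback.fst W₀.hom (W j.1).hom) := fun j => inferInstance
    haveI : ∀ j : T, CompactSpace ↥(pullback W₀.hom (W j.1).hom) := fun j =>
      QuasiCompact.compactSpace_of_compactSpace (pullback.fst W₀.hom (W j.1).hom)
    haveI : ∀ j : T, QuasiSeparatedSpace ↥(pullback W₀.hom (W j.1).hom) := fun j =>
      quasiSeparatedSpace_of_quasiSeparated (pullback.fst W₀.hom (W j.1).hom)
    haveI : ∀ j : T, SpectralSpace ↥(pullback W₀.hom (W j.1).hom) := fun j => {}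
    let σj : ∀ j : T, Secs (pullback.fst W₀.hom (W j.1).hom ≫ W₀.hom) F := fun j =>
      Secs.ofSect (pullback.fst W₀.hom (W j.1).hom) rfl (t K.1)
    let τj : ∀ j : T, Secs (pullback.fst W₀.hom (W j.1).hom ≫ W₀.hom) F := fun j =>
      Secs.ofSect (pullback.snd W₀.hom (W j.1).hom) pullback.condition.symm (t j.1)
    let D : ∀ j : T, Set ↥(pullback W₀.hom (W j.1).hom) := fun j =>
      (pullback.snd W₀.hom (W j.1).hom).base ⁻¹' gen (overZ i (W j.1)) ∩ (Secs.eqLocus (σj j) (τj j))ᶜ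
    have hD : ∀ j, CClosed (D j) := fun j =>
      (cClosed_preimage (pullback.snd W₀.hom (W j.1).hom).isSpectralMap
        (cClosed_gen (((i.isClosedEmbedding.isClosed_range).preimage (W j.1).hom.continuous).isCompact))).inter
        (cClosed_of_isClosed (Secs.isOpen_eqLocus _ _).isClosed_compl)
    let B : Set W₀.left := ⋃ j : T, (pullback.fst W₀.hom (W j.1).hom).base '' D j
    have hB : (l Ω p).base default ∉ closure B := by
      intro hcl
      rw [closure_iUnion_of_finite] at hcl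
      obtain ⟨j, hj⟩ := Set.mem_iUnion.1 hcl
      obtain ⟨d, ⟨hdg, hdne⟩, hd⟩ := exists_specializes_image
        (pullback.fst W₀.hom (W j.1).hom).isSpectralMap (hD j) hj
      obtain ⟨Ω', _, _, qd, rfl⟩ := Secs.exists_point d
      refine hdne ((Secs.mem_eqLocus_iff _ _ qd _ rfl).2 ?_)
      rw [Secs.ofSect_val, Secs.ofSect_val]
      refine gSh_eq_of_gen i hi σ₀ (hg _) (hg _) _ _ _ _ ?_ ?_
      · obtain ⟨w', hw', hlw⟩ := hlg Ω p
        exact ⟨w', hw', hd.trans hlw⟩
      · exact hdg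
    let N : W₀.left.Opens := ⟨(closure B)ᶜ, isClosed_closure.isOpen_compl⟩
    haveI : Etale W₀.hom := W₀.prop
    refine ⟨N.toScheme, N.ι ≫ W₀.hom, inferInstance, ⟨_, hB⟩, W₀, N.ι, (Category.comp_id _).symm, t K.1, ?_,
      fun Ω' _ _ q η h => ?_⟩
    · show (l Ω p ≫ W₀.hom).base default = _
      rw [hl Ω p]
    let p' := q ≫ N.ι ≫ W₀.hom
    let j := k Ω' p'
    have hη : p' = η := (Category.comp_id p').symm.trans h
    let d : Spec (CommRingCat.of Ω') ⟶ pullback W₀.hom (W j.1).hom :=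
      pullback.lift (q ≫ N.ι) (l Ω' p') ((Category.assoc q N.ι W₀.hom).trans (hl Ω' p').symm)
    have hmem : d.base default ∈ Secs.eqLocus (σj j) (τj j) := by
      by_contra hne
      refine (q.base default).2 (subset_closure (Set.mem_iUnion.2 ⟨j, d.base default, ⟨?_, hne⟩, ?_⟩))
      · show (d ≫ pullback.snd W₀.hom (W j.1).hom).base default ∈ gen (overZ i (W j.1))
        rw [pullback.lift_snd]
        exact hlg Ω' p'
      · show (d ≫ pullback.fst W₀.hom (W j.1).hom).base default = _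
        rw [pullback.lift_fst]
        rfl
    have e := (Secs.mem_eqLocus_iff _ _ d η (by
      rw [← Category.assoc, pullback.lift_fst, Category.assoc]; exact hη)).1 hmem
    rw [Secs.ofSect_val, Secs.ofSect_val] at e
    exact (gSh_congr (pullback.lift_snd _ _ _).symm _ _ _).trans (e.symm.trans
      (gSh_congr (pullback.lift_fst _ _ _) _ _ _))
  · refine Secs.ext' fun Ω _ _ p η h => ?_
    rw [Secs.res_val]
    have hg0 := hg (k Ω (p ≫ i)).1
    exact (hg0 Ω p (l Ω (p ≫ i)) η h ((hl Ω (p ≫ i)).trans h)).symm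

/-- Sections on `X` are the sections on `Z`. -/
theorem restrict_bijective (hi : ConnOnIntegral i) :
    Function.Bijective (fun σ : Secs (𝟙 X) F => σ.res i (Category.comp_id i)) :=
  ⟨restrict_injective i hi, restrict_surjective i hi⟩

end GrothLib.PropH0
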