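import Groth.Agent.Lib.PropH0.Clopen
import Mathlib.AlgebraicGeometry.Morphisms.Proper

/-!
# The henselian couple attached to the ring of global functions
-/

set_option autoImplicit false
universe u

open CategoryTheory CategoryTheory.Limits AlgebraicGeometry Opposite TopologicalSpace

namespace GrothLib.PropH0

theorem existsUnique_global {A : Type u} [CommRing A] (I : Ideal A) {X : Scheme.{u}}
    (f : X ⟶ Spec (CommRingCat.of A)) [IsProper f] (J : Ideal Γ(X, ⊤)) [HenselianRing Γ(X, ⊤) J]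
    (hJ : J = RingHom.ker (pullback.fst f (Spec.map (CommRingCat.ofHom (Ideal.Quotient.mk I)))).appTop.hom)
    {Y : Scheme.{u}} (g : Y ⟶ X) [IsProper g]
    (V : Set ↥(pullback g (pullback.fst f (Spec.map (CommRingCat.ofHom (Ideal.Quotient.mk I)))))) (hV : IsClopen V) :
    ∃! U : Set ↥Y, IsClopen U ∧
      (pullback.fst g (pullback.fst f (Spec.map (CommRingCat.ofHom (Ideal.Quotient.mk I))))).base ⁻¹' U = V := by
  let i := pullback.fst f (Spec.map (CommRingCat.ofHom (Ideal.Quotient.mk I)))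
  haveI : IsClosedImmersion (Spec.map (CommRingCat.ofHom (Ideal.Quotient.mk I))) :=
    IsClosedImmersion.spec_of_surjective _ Ideal.Quotient.mk_surjective
  let F : X ⟶ Spec (CommRingCat.of Γ(X, ⊤)) := X.toSpecΓ
  let θ : Spec (CommRingCat.of Γ(X, ⊤)) ⟶ Spec (CommRingCat.of A) :=
    Spec.map f.appTop ≫ (Spec (CommRingCat.of A)).isoSpec.inv
  have hF : F ≫ θ = f := by
    show X.toSpecΓ ≫ Spec.map f.appTop ≫ _ = f
    rw [← Scheme.toSpecΓ_naturality_assoc]
    simp
  haveI : IsSeparated θ := inferInstance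
  haveI : IsProper (F ≫ θ) := hF.symm ▸ ‹IsProper f›
  haveI : IsProper F := IsProper.of_comp F θ
  have hb : ∀ (x : X) (s : Γ(X, ⊤)), ev (V := ⊤) x trivial s = 0 ↔ s ∈ (F.base x : PrimeSpectrum Γ(X, ⊤)).asIdeal := by
    intro x s
    have h : (x ∈ X.basicOpen s) ↔ s ∉ (F.base x : PrimeSpectrum Γ(X, ⊤)).asIdeal := by
      rw [← Scheme.toSpecΓ_preimage_basicOpen]
      rfl
    exact (X.evaluation_eq_zero_iff_notMem_basicOpen (U := ⊤) x trivial s).trans (by rw [h, not_not])
  have hrange : Z0 F J = Z0 f I := by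
    ext x
    constructor
    · intro hx
      refine (mem_Z0_iff f I (V := ⊤) x trivial).2 fun a ha => (hb x _).2 (hx ?_)
      rw [hJ]
      show i.appTop ((f.appLE ⊤ ⊤ le_top).hom ((Scheme.ΓSpecIso (CommRingCat.of A)).inv a)) = 0
      have hc : (i ≫ f) = pullback.snd f _ ≫ Spec.map (CommRingCat.ofHom (Ideal.Quotient.mk I)) :=
        pullback.condition
      rw [← ConcreteCategory.comp_apply, Scheme.Hom.appLE,
        show f.app ⊤ ≫ X.presheaf.map _ = f.appTop from by simp, ← Scheme.Hom.comp_appTop, hc,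
        Scheme.Hom.comp_appTop, ← ConcreteCategory.comp_apply, ← Category.assoc,
        ← Scheme.ΓSpecIso_inv_naturality, ConcreteCategory.comp_apply, ConcreteCategory.comp_apply]
      show (pullback.snd f _).appTop ((Scheme.ΓSpecIso (CommRingCat.of (A ⧸ I))).inv ((Ideal.Quotient.mk I) a)) = 0
      rw [Ideal.Quotient.eq_zero_iff_mem.2 ha, map_zero, map_zero]
    · intro hx s hs
      rw [← range_fst_eq_Z0] at hx
      obtain ⟨p, rfl⟩ := hx
      refine (hb _ s).1 ?_
      have : s ∈ RingHom.ker i.appTop.hom := hJ ▸ hs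
      refine (ev_comp_eq_zero_iff i (U := ⊤) (V := ⊤) le_top p trivial s).1 ?_
      rw [show (i.appLE ⊤ ⊤ le_top).hom s = i.appTop s from by simp [Scheme.Hom.appLE],
        (RingHom.mem_ker.1 this : i.appTop s = 0), map_zero]
  refine existsUnique_preimage (g ≫ F) J _ (pullback.fst g i).isClosedEmbedding ?_ V hV
  rw [Scheme.Pullback.range_fst, range_fst_eq_Z0, ← hrange]
  rfl

end GrothLib.PropH0
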