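import Groth.Agent.Lib.FormalFn.Geom
import Groth.Agent.Lib.HomSh.Coherent
import Mathlib.RingTheory.Ideal.Operations

/-!
# Approximate gluing of functions on a proper scheme (Artin–Rees for the Cech complex)
-/

set_option autoImplicit false
set_option linter.style.haveILetI false
set_option maxHeartbeats 1000000
universe u

open CategoryTheory CategoryTheory.Limits AlgebraicGeometry Opposite TopologicalSpace

namespace GrothLib.PropH0

open GrothLib.BCCoh

variable {A : Type u} [CommRing A] {X : Scheme.{u}} (f : X ⟶ Spec (CommRingCat.of A))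

/-- `A → Γ(X, V)`. -/
noncomputable abbrev sc (V : X.Opens) : A →+* Γ(X, V) :=
  (f.appLE ⊤ V le_top).hom.comp (Scheme.ΓSpecIso (CommRingCat.of A)).inv.hom

theorem map_sc {V W : X.Opens} (h : W ≤ V) :
    (X.presheaf.map (homOfLE h).op).hom.comp (sc f V) = sc f W := by
  rw [← RingHom.comp_assoc, ← CommRingCat.hom_comp, Scheme.Hom.appLE_map]

theorem map_mem {V W : X.Opens} (h : W ≤ V) (J : Ideal A) {s : Γ(X, V)} (hs : s ∈ J.map (sc f V)) :
    X.presheaf.map (homOfLE h).op s ∈ J.map (sc f W) := by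
  have := Ideal.mem_map_of_mem (X.presheaf.map (homOfLE h).op).hom hs
  rwa [Ideal.map_map, map_sc] at this

theorem mem_smul_top_iff (V : X.Opens) (J : Ideal A) (s : Γ(X, V)) :
    (show secA f (Coh.structureModule X) V from s) ∈ J • (⊤ : Submodule A (secA f (Coh.structureModule X) V)) ↔
      s ∈ J.map (sc f V) := by
  letI : Algebra A Γ(X, V) := (sc f V).toAlgebra
  let L : Γ(X, V) ≃ₗ[A] secA f (Coh.structureModule X) V :=
    { toFun := fun x => x
      invFun := fun x => x
      map_add' := fun _ _ => rfl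
      map_smul' := fun _ _ => rfl
      left_inv := fun _ => rfl
      right_inv := fun _ => rfl }
  have h := Submodule.map_smul'' J (⊤ : Submodule A Γ(X, V)) L.toLinearMap
  rw [Submodule.map_top, LinearEquiv.range] at h
  rw [← h, Submodule.mem_map]
  constructor
  · rintro ⟨y, hy, e⟩
    obtain rfl : y = s := e
    rwa [Ideal.smul_top_eq_map] at hy
  · exact fun hs => ⟨s, by rwa [Ideal.smul_top_eq_map], rfl⟩

theorem mem_smul_pi_iff {σ : Type*} [Finite σ] {M : σ → Type*} [∀ a, AddCommGroup (M a)]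
    [∀ a, Module A (M a)] (J : Ideal A) (y : ∀ a, M a) :
    y ∈ J • (⊤ : Submodule A (∀ a, M a)) ↔ ∀ a, y a ∈ J • (⊤ : Submodule A (M a)) := by
  classical
  haveI := Fintype.ofFinite σ
  constructor
  · intro hy a
    exact Submodule.smul_mono le_rfl le_top ((Submodule.map_smul'' J _ _).le
      (Submodule.mem_map_of_mem (f := (LinearMap.proj a : (∀ a, M a) →ₗ[A] M a)) hy))
  · intro hy
    rw [show y = ∑ a, LinearMap.single A M a (y a) from funext fun b => by simp [Finset.sum_apply]]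
    refine Submodule.sum_mem _ fun a _ => ?_
    have := Submodule.mem_map_of_mem (f := LinearMap.single A M a) (hy a)
    rw [Submodule.map_smul''] at this
    exact Submodule.smul_mono le_rfl le_top this

/-- Induction on the elements of `I • N`. -/
theorem smul_ind {R M : Type*} [CommRing R] [AddCommGroup M] [Module R M] {J : Ideal R}
    {N : Submodule R M} {p : M → Prop} (h1 : ∀ a ∈ J, ∀ m ∈ N, p (a • m))
    (h2 : ∀ y y', p y → p y' → p (y + y')) {y : M} (hy : y ∈ J • N) : p y :=
  Submodule.smul_induction_on hy h1 h2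

variable {ι : Type u} (U : ι → X.Opens)

theorem W_le {n : ℕ} (a : Fin (n + 1) → ι) (k : Fin (n + 1)) : W U a ≤ U (a k) := by
  rw [W, Cech.obj_eq_iInf]; exact iInf_le _ k

theorem le_W_const (i : ι) : U i ≤ W U (fun _ : Fin 1 => i) := by
  rw [W, Cech.obj_eq_iInf]; exact le_iInf fun _ => le_rfl

theorem le_W_pair (i j : ι) : U i ⊓ U j ≤ W U (![i, j] : Fin 2 → ι) := by
  rw [W, Cech.obj_eq_iInf]
  exact le_iInf fun k => by fin_cases k <;> simp

/-- The restriction to a pair of a cochain. -/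
theorem res_congr (y : ∀ a : Fin 1 → ι, Γ(X, W U a)) {V : X.Opens} {a a' : Fin 1 → ι} (e : a = a')
    (p : V ≤ W U a) (q : V ≤ W U a') :
    X.presheaf.map (homOfLE p).op (y a) = X.presheaf.map (homOfLE q).op (y a') := by
  subst e; rfl

theorem res_res {V₁ V₂ V₃ : X.Opens} (h : V₂ ≤ V₁) (h' : V₃ ≤ V₂) (s : Γ(X, V₁)) :
    X.presheaf.map (homOfLE h').op (X.presheaf.map (homOfLE h).op s) =
      X.presheaf.map (homOfLE (h'.trans h)).op s := by
  rw [← ConcreteCategory.comp_apply, ← Functor.map_comp]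
  rfl

/-- The differential in degree zero. -/
theorem cxd_zero_val (y : ∀ a : Fin 1 → ι, Γ(X, W U a)) (a : Fin 2 → ι)
    (p : W U a ≤ W U (fun _ : Fin 1 => a 1)) (q : W U a ≤ W U (fun _ : Fin 1 => a 0)) :
    (show Γ(X, W U a) from cxd f U (Coh.structureModule X) 0 y a) =
      X.presheaf.map (homOfLE p).op (y fun _ => a 1) - X.presheaf.map (homOfLE q).op (y fun _ => a 0) := by
  have e0 : (fun l : Fin 1 => a ((0 : Fin 2).succAbove l)) = fun _ => a 1 :=
    funext fun l => by fin_cases l; rfl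
  have e1 : (fun l : Fin 1 => a ((1 : Fin 2).succAbove l)) = fun _ => a 0 :=
    funext fun l => by fin_cases l; rfl
  have h := cxd_apply f U (Coh.structureModule X) 0 y a
  rw [Fin.sum_univ_two] at h
  simp only [Fin.val_zero, pow_zero, one_smul, Fin.val_one, pow_one, neg_smul] at h
  refine h.trans ?_
  rw [sub_eq_add_neg]
  exact congrArg₂ (fun (s t : Γ(X, W U a)) => s + -t)
    (res_congr U y e0 (leOfHom (Cech.proj (D := Opens X.carrier) U a 0)) p)
    (res_congr U y e1 (leOfHom (Cech.proj (D := Opens X.carrier) U a 1)) q)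

/-- A zero-cochain as a family of functions. -/
noncomputable def asFun (y : cxX f U (Coh.structureModule X) 0) : ∀ a : Fin 1 → ι, Γ(X, W U a) := y

theorem exists_of_cxd_eq_zero (hcov : iSup U = ⊤) (y : ∀ a : Fin 1 → ι, Γ(X, W U a))
    (hy : cxd f U (Coh.structureModule X) 0 y = 0) : ∃ b : Γ(X, ⊤), ∀ i,
      X.presheaf.map (homOfLE le_top).op b = X.presheaf.map (homOfLE (le_W_const U i)).op (y fun _ => i) := by
  obtain ⟨b, hb, -⟩ := TopCat.Sheaf.existsUnique_gluing' X.sheaf U ⊤ (fun i => homOfLE le_top)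
    (hcov ▸ le_rfl) (fun i => X.presheaf.map (homOfLE (le_W_const U i)).op (y fun _ => i)) (fun i j => by
      have p : W U (![i, j] : Fin 2 → ι) ≤ W U (fun _ : Fin 1 => (![i, j] : Fin 2 → ι) 1) := by
        rw [W, W, Cech.obj_eq_iInf, Cech.obj_eq_iInf]; exact le_iInf fun _ => iInf_le _ 1
      have q : W U (![i, j] : Fin 2 → ι) ≤ W U (fun _ : Fin 1 => (![i, j] : Fin 2 → ι) 0) := by
        rw [W, W, Cech.obj_eq_iInf, Cech.obj_eq_iInf]; exact le_iInf fun _ => iInf_le _ 0
      have h : (0 : Γ(X, W U (![i, j] : Fin 2 → ι))) =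
          X.presheaf.map (homOfLE p).op (y fun _ => j) - X.presheaf.map (homOfLE q).op (y fun _ => i) :=
        (congrFun hy ![i, j]).symm.trans (cxd_zero_val f U y ![i, j] p q)
      have h2 := congrArg (X.presheaf.map (homOfLE (le_W_pair U i j)).op) h.symm
      rw [map_sub, map_zero, sub_eq_zero] at h2
      show X.presheaf.map (homOfLE inf_le_left).op _ = X.presheaf.map (homOfLE inf_le_right).op _
      rw [res_res, res_res]
      exact ((res_res _ _ _).symm.trans (h2.symm.trans (res_res _ _ _))))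
  exact ⟨b, hb⟩

variable [IsNoetherianRing A] [IsProper f] [Finite ι]

theorem exists_glue (I : Ideal A) (hcov : iSup U = ⊤)
    (haff : ∀ (n : ℕ) (a : Fin (n + 1) → ι), IsAffineOpen (⨅ k, U (a k))) :
    (∃ c : ℕ, ∀ e : ∀ i, Γ(X, U i),
      (∀ i j, X.presheaf.map (homOfLE (inf_le_left : U i ⊓ U j ≤ U i)).op (e i) -
          X.presheaf.map (homOfLE (inf_le_right : U i ⊓ U j ≤ U j)).op (e j) ∈ (I ^ c).map (sc f _)) →
      ∃ b : Γ(X, ⊤), ∀ i, X.presheaf.map (homOfLE le_top).op b - e i ∈ I.map (sc f (U i))) ∧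
    ∃ c : ℕ, ∀ b : Γ(X, ⊤), (∀ i, X.presheaf.map (homOfLE le_top).op b ∈ (I ^ c).map (sc f (U i))) →
      b ∈ I.map (sc f ⊤) := by
  classical
  let O := Coh.structureModule X
  let K := cx f U O
  have hO := HomSh.isCoh_structureModule X
  have hcW : ∀ (a : Fin 2 → ι) (k : Fin 2), W U a ≤ W U (fun _ : Fin 1 => a k) := fun a k => by
    rw [W, W, Cech.obj_eq_iInf, Cech.obj_eq_iInf]; exact le_iInf fun _ => iInf_le _ k
  refine ⟨?_, ?_⟩
  · have h1 : FormalFn.IsGood I (K.sc' ((ComplexShape.up ℕ).prev 1) 1 ((ComplexShape.up ℕ).next 1)) :=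
      FormalFn.isGood_cx (I := I) f O hO U hcov haff 1
    rw [CochainComplex.prev_nat_succ, CochainComplex.next] at h1
    obtain ⟨c, hc⟩ := h1.2
    refine ⟨c + 1, fun e he => ?_⟩
    let y₀ : ∀ a : Fin 1 → ι, Γ(X, W U a) := fun a => X.presheaf.map (homOfLE (W_le U a 0)).op (e (a 0))
    have hd : (cxd f U O 0 y₀ : cxX f U O 1) ∈ I ^ (c + 1) • (⊤ : Submodule A (cxX f U O 1)) := by
      refine (mem_smul_pi_iff _ _).2 fun a => ?_
      have h := map_mem f (W := W U a) (le_inf (W_le U a 1) (W_le U a 0)) _ (he (a 1) (a 0))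
      rw [map_sub, res_res, res_res] at h
      refine (mem_smul_top_iff f _ _ (show Γ(X, W U a) from cxd f U O 0 y₀ a)).2 ?_
      rw [cxd_zero_val f U y₀ a (hcW a 1) (hcW a 0)]
      show X.presheaf.map _ (X.presheaf.map _ (e (a 1))) - X.presheaf.map _ (X.presheaf.map _ (e (a 0))) ∈ _
      rw [res_res, res_res]
      exact h
    have hd' : ((cx f U O).d 0 1).hom y₀ ∈
        LinearMap.range (K.sc' 0 1 (1 + 1)).f.hom ⊓ I ^ (c + 1) • (⊤ : Submodule A (cxX f U O 1)) :=
      ⟨⟨y₀, rfl⟩, by rw [cx_d]; exact hd⟩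
    obtain ⟨z, hz, hz'⟩ := hc (c + 1) (Nat.le_succ c) hd'
    let z' : ∀ a : Fin 1 → ι, Γ(X, W U a) := z
    have hcyc : cxd f U O 0 (fun a => y₀ a - z' a) = 0 := by
      refine ((cxd f U O 0).hom.map_sub y₀ z).trans (sub_eq_zero.2 ?_)
      have h2 : (cx f U O).d 0 1 z = (cx f U O).d 0 1 y₀ := hz'
      rw [cx_d] at h2
      exact h2.symm
    obtain ⟨b, hb⟩ := exists_of_cxd_eq_zero f U hcov (fun a => y₀ a - z' a) hcyc
    refine ⟨b, fun i => ?_⟩
    rw [show c + 1 - c = 1 by omega, pow_one] at hz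
    have hzi : z' (fun _ => i) ∈ I.map (sc f _) :=
      (mem_smul_top_iff f _ _ _).1 ((mem_smul_pi_iff (M := fun a => secA f O (W U a)) _ z).1 hz (fun _ => i))
    have hzi' := map_mem f (le_W_const U i) I hzi
    rw [hb i, map_sub]
    show X.presheaf.map _ (X.presheaf.map _ (e i)) - _ - e i ∈ _
    rw [res_res, show X.presheaf.map (homOfLE ((le_W_const U i).trans (W_le U (fun _ : Fin 1 => i) 0))).op
        (e i) = e i from by simp, sub_sub_cancel_left]
    exact neg_mem hzi'
  · have h0 : FormalFn.IsGood I (K.sc' ((ComplexShape.up ℕ).prev 0) 0 ((ComplexShape.up ℕ).next 0)) :=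
      FormalFn.isGood_cx (I := I) f O hO U hcov haff 0
    rw [CochainComplex.prev_nat_zero, CochainComplex.next] at h0
    obtain ⟨k₀, hk⟩ := h0.1
    refine ⟨k₀ + 1, fun b hb => ?_⟩
    let y₀ : ∀ a : Fin 1 → ι, Γ(X, W U a) := fun a => X.presheaf.map (homOfLE le_top).op b
    have hy₀ : (y₀ : cxX f U O 0) ∈
        LinearMap.ker (K.sc' 0 0 (0 + 1)).g.hom ⊓ I ^ (k₀ + 1) • (⊤ : Submodule A (cxX f U O 0)) := by
      refine ⟨?_, (mem_smul_pi_iff _ _).2 fun a => (mem_smul_top_iff f _ _ _).2 ?_⟩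
      · show ((cx f U O).d 0 1).hom y₀ = 0
        rw [cx_d]
        funext a
        refine (cxd_zero_val f U y₀ a (hcW a 1) (hcW a 0)).trans ?_
        show X.presheaf.map _ (X.presheaf.map _ b) - X.presheaf.map _ (X.presheaf.map _ b) = (0 : Γ(X, _))
        rw [res_res, res_res, sub_self]
      · have h := map_mem f (W_le U a 0) _ (hb (a 0))
        rw [res_res] at h
        exact h
    have h := hk (k₀ + 1) (Nat.le_succ k₀) hy₀
    have hmap : Submodule.map (K.sc' 0 0 (0 + 1)).f.hom (I ^ (k₀ + 1) • ⊤) = ⊥ := by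
      refine (Submodule.eq_bot_iff _).2 ?_
      rintro _ ⟨v, -, rfl⟩
      show ((cx f U O).d 0 0).hom v = 0
      rw [(cx f U O).shape 0 0 (by simp)]
      rfl
    rw [show k₀ + 1 - k₀ = 1 by omega, pow_one, hmap, sup_bot_eq] at h
    have h' := Submodule.smul_mono (le_refl I) inf_le_left h
    have main : ∀ y : cxX f U O 0, y ∈ I • LinearMap.ker (K.sc' 0 0 (0 + 1)).g.hom →
        cxd f U O 0 y = 0 ∧ ∃ v : Γ(X, ⊤), v ∈ I.map (sc f ⊤) ∧ ∀ i,
          X.presheaf.map (homOfLE le_top).op v =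
            X.presheaf.map (homOfLE (le_W_const U i)).op (asFun f U y (fun _ => i)) := by
      intro y hy
      refine smul_ind (p := fun y => cxd f U O 0 y = 0 ∧
        ∃ v : Γ(X, ⊤), v ∈ I.map (sc f ⊤) ∧ ∀ i, X.presheaf.map (homOfLE le_top).op v =
            X.presheaf.map (homOfLE (le_W_const U i)).op (asFun f U y (fun _ => i)))
        (fun a ha m hm => ?_) (fun y y' hy hy' => ?_) hy
      ·
        have hm' : cxd f U O 0 m = 0 := by
          have : ((cx f U O).d 0 1).hom m = 0 := hm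
          rwa [cx_d] at this
        obtain ⟨v, hv⟩ := exists_of_cxd_eq_zero f U hcov m hm'
        refine ⟨(((cxd f U O 0).hom.map_smul a m).trans (congrArg (a • ·) hm')).trans (smul_zero a), sc f ⊤ a * v,
          Ideal.mul_mem_right _ _ (Ideal.mem_map_of_mem _ ha), fun i => ?_⟩
        show _ = X.presheaf.map (homOfLE (le_W_const U i)).op (sc f _ a * (asFun f U m (fun _ => i)))
        rw [map_mul, hv i]
        refine Eq.trans ?_ ((X.presheaf.map (homOfLE (le_W_const U i)).op).hom.map_mul (sc f _ a) (asFun f U m (fun _ => i))).symm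
        exact congrArg (· * _) ((RingHom.congr_fun (map_sc f _) a).trans (RingHom.congr_fun (map_sc f _) a).symm)
      ·
        obtain ⟨h1, v, hv, hvy⟩ := hy
        obtain ⟨h2, v', hv', hvy'⟩ := hy'
        refine ⟨((cxd f U O 0).hom.map_add y y').trans ((congrArg₂ (· + ·) h1 h2).trans (add_zero _)),
          v + v', add_mem hv hv', fun i => ?_⟩
        show _ = X.presheaf.map (homOfLE (le_W_const U i)).op
          ((asFun f U y (fun _ => i)) + (asFun f U y' (fun _ => i)))
        rw [map_add, map_add, hvy i, hvy' i]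
    obtain ⟨-, v, hv, hvy⟩ := main y₀ h'
    have : v = b := TopCat.Sheaf.eq_of_locally_eq' X.sheaf U ⊤ (fun i => homOfLE le_top) (hcov ▸ le_rfl) v b
      fun i => by
        refine (hvy i).trans ?_
        show X.presheaf.map _ (X.presheaf.map _ b) = _
        rw [res_res]
        rfl
    exact this ▸ hv

end GrothLib.PropH0
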