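import Mathlib.AlgebraicGeometry.ResidueField
import Mathlib.AlgebraicGeometry.AffineScheme
import Mathlib.AlgebraicGeometry.Morphisms.Proper
import Mathlib.RingTheory.Nullstellensatz

/-!
# Values of functions along the closed fibre
-/

set_option autoImplicit false
universe u

open CategoryTheory CategoryTheory.Limits AlgebraicGeometry Opposite TopologicalSpace

namespace GrothLib.PropH0

variable {A : Type u} [CommRing A] {X : Scheme.{u}} (f : X ⟶ Spec (CommRingCat.of A)) (I : Ideal A)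

/-- The preimage of `V(I)`. -/
def Z0 : Set X := f.base ⁻¹' PrimeSpectrum.zeroLocus (I : Set A)

theorem isClosed_Z0 : IsClosed (Z0 f I) :=
  (PrimeSpectrum.isClosed_zeroLocus _).preimage f.continuous

/-- Evaluation at a point, as a ring homomorphism. -/
noncomputable abbrev ev {V : X.Opens} (x : X) (hx : x ∈ V) : Γ(X, V) →+* X.residueField x :=
  (X.evaluation V x hx).hom

theorem ev_res {V W : X.Opens} (h : W ≤ V) (x : X) (hx : x ∈ W) (s : Γ(X, V)) :
    ev x hx (X.presheaf.map (homOfLE h).op s) = ev x (h hx) s := by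
  show X.residue x (X.presheaf.germ W x hx (X.presheaf.map (homOfLE h).op s)) = _
  rw [TopCat.Presheaf.germ_res_apply]
  rfl

theorem ev_sc_eq_zero_iff {V : X.Opens} (x : X) (hx : x ∈ V) (a : A) :
    ev x hx ((f.appLE ⊤ V le_top).hom ((Scheme.ΓSpecIso (CommRingCat.of A)).inv a)) = 0 ↔
      a ∈ (f.base x : PrimeSpectrum A).asIdeal := by
  have h1 : x ∈ X.basicOpen (f.appTop ((Scheme.ΓSpecIso (CommRingCat.of A)).inv a)) ↔
      a ∉ (f.base x : PrimeSpectrum A).asIdeal := by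
    rw [← Scheme.preimage_basicOpen_top]
    show f x ∈ (Spec (CommRingCat.of A)).basicOpen _ ↔ _
    rw [basicOpen_eq_of_affine]
    rfl
  have h2 : ev x hx ((f.appLE ⊤ V le_top).hom ((Scheme.ΓSpecIso (CommRingCat.of A)).inv a)) =
      ev (V := ⊤) x trivial (f.appTop ((Scheme.ΓSpecIso (CommRingCat.of A)).inv a)) :=
    ev_res le_top x hx _
  rw [h2]
  exact (X.evaluation_eq_zero_iff_notMem_basicOpen (U := ⊤) x trivial _).trans (by rw [h1, not_not])

theorem mem_Z0_iff {V : X.Opens} (x : X) (hx : x ∈ V) :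
    x ∈ Z0 f I ↔ ∀ a ∈ I, ev x hx ((f.appLE ⊤ V le_top).hom ((Scheme.ΓSpecIso (CommRingCat.of A)).inv a)) = 0 := by
  exact ⟨fun h a ha => (ev_sc_eq_zero_iff f x hx a).2 (h ha),
    fun h a ha => (ev_sc_eq_zero_iff f x hx a).1 (h a ha)⟩

/-- The structure map to sections on an open. -/
noncomputable abbrev σ (V : X.Opens) : A →+* Γ(X, V) :=
  (f.appLE ⊤ V le_top).hom.comp (Scheme.ΓSpecIso (CommRingCat.of A)).inv.hom

theorem ev_eq_zero_of_mem_map {V : X.Opens} {s : Γ(X, V)} (hs : s ∈ I.map (σ f V)) (x : X)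
    (hx : x ∈ V) (hxZ : x ∈ Z0 f I) : ev x hx s = 0 :=
  (Ideal.map_le_iff_le_comap.2 fun a ha => (mem_Z0_iff f I x hx).1 hxZ a ha :
    I.map (σ f V) ≤ RingHom.ker (ev x hx)) hs

theorem ev_fromSpec_eq_zero_iff {V : X.Opens} (hV : IsAffineOpen V) (q : PrimeSpectrum Γ(X, V))
    (hq : hV.fromSpec.base q ∈ V) (s : Γ(X, V)) : ev (hV.fromSpec.base q) hq s = 0 ↔ s ∈ q.asIdeal := by
  have h : (hV.fromSpec.base q ∈ X.basicOpen s) ↔ s ∉ q.asIdeal := by
    show q ∈ hV.fromSpec ⁻¹ᵁ X.basicOpen s ↔ _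
    rw [hV.fromSpec_preimage_basicOpen]
    rfl
  exact (X.evaluation_eq_zero_iff_notMem_basicOpen _ hq s).trans (by rw [h, not_not])

theorem fromSpec_mem {V : X.Opens} (hV : IsAffineOpen V) (q : PrimeSpectrum Γ(X, V)) :
    hV.fromSpec.base q ∈ V := hV.range_fromSpec.subset ⟨q, rfl⟩

theorem fromSpec_mem_Z0 {V : X.Opens} (hV : IsAffineOpen V) (q : PrimeSpectrum Γ(X, V))
    (hq : I.map (σ f V) ≤ q.asIdeal) : hV.fromSpec.base q ∈ Z0 f I :=
  (mem_Z0_iff f I _ (fromSpec_mem hV q)).2 fun a ha =>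
    (ev_fromSpec_eq_zero_iff hV q _ _).2 (hq (Ideal.mem_map_of_mem _ ha))

theorem mem_radical_of_vanish {V : X.Opens} (hV : IsAffineOpen V) {s : Γ(X, V)}
    (h : ∀ x (hx : x ∈ V), x ∈ Z0 f I → ev x hx s = 0) : s ∈ (I.map (σ f V)).radical := by
  rw [Ideal.radical_eq_sInf, Ideal.mem_sInf]
  rintro J ⟨hJ, hp⟩
  exact (ev_fromSpec_eq_zero_iff hV ⟨J, hp⟩ _ s).1
    (h _ (fromSpec_mem hV ⟨J, hp⟩) (fromSpec_mem_Z0 f I hV ⟨J, hp⟩ hJ))

theorem exists_sep {V : X.Opens} (hV : IsAffineOpen V) {C C' : Set X} (hC : IsClosed C)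
    (hC' : IsClosed C') (hd : Disjoint C C') :
    ∃ b : Γ(X, V), (∀ x (hx : x ∈ V), x ∈ C → ev x hx b = 0) ∧
      ∀ x (hx : x ∈ V), x ∈ C' → ev x hx b = 1 := by
  let S : Set X → Ideal Γ(X, V) := fun T => ⨅ (x : X) (hx : x ∈ V) (_ : x ∈ T), RingHom.ker (ev x hx)
  have hS : ∀ (T : Set X) s, s ∈ S T ↔ ∀ x (hx : x ∈ V), x ∈ T → ev x hx s = 0 := fun T s => by
    simp only [S, Ideal.mem_iInf, RingHom.mem_ker]
  have hclosed : ∀ (T : Set X), IsClosed T → ∀ q : PrimeSpectrum Γ(X, V), S T ≤ q.asIdeal →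
      hV.fromSpec.base q ∈ T := by
    intro T hT q hq
    have hle : PrimeSpectrum.vanishingIdeal (hV.fromSpec.base ⁻¹' T) ≤ S T := fun s hs =>
      (hS T s).2 fun x hx hxT => by
        obtain ⟨r, rfl⟩ := hV.range_fromSpec.symm.subset hx
        exact (ev_fromSpec_eq_zero_iff hV r hx s).2 ((PrimeSpectrum.mem_vanishingIdeal _ _).1 hs r hxT)
    have : q ∈ closure (hV.fromSpec.base ⁻¹' T) := by
      exact (PrimeSpectrum.zeroLocus_vanishingIdeal_eq_closure
        (hV.fromSpec.base ⁻¹' T : Set (PrimeSpectrum Γ(X, V)))).subset fun s hs => hq (hle hs)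
    rwa [(hT.preimage hV.fromSpec.continuous).closure_eq] at this
  have htop : S C ⊔ S C' = ⊤ := by
    by_contra hne
    obtain ⟨M, hM, hle⟩ := Ideal.exists_le_maximal _ hne
    exact Set.disjoint_left.1 hd (hclosed C hC ⟨M, hM.isPrime⟩ (le_sup_left.trans hle))
      (hclosed C' hC' ⟨M, hM.isPrime⟩ (le_sup_right.trans hle))
  obtain ⟨b, hb, b', hb', e⟩ := Submodule.mem_sup.1 ((Ideal.eq_top_iff_one _).1 htop)
  refine ⟨b, (hS C b).1 hb, fun x hx hxC => ?_⟩
  rw [show b = 1 - b' from eq_sub_of_add_eq e, map_sub, map_one, (hS C' b').1 hb' x hx hxC, sub_zero]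

end GrothLib.PropH0
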