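import Groth.Agent.Lib.PropH0.Glue
import Groth.Agent.Lib.PropH0.Val
import Groth.Agent.Lib.Hensel.Pair
import Groth.Agent.Lib.QCoh.Qcqs

/-!
# Open-closed subsets of a proper scheme over a Noetherian henselian pair
-/

set_option autoImplicit false
universe u

open CategoryTheory CategoryTheory.Limits AlgebraicGeometry Opposite TopologicalSpace

namespace GrothLib.PropH0

/-- A polynomial in `b` which is an idempotent modulo `(b(1-b))^m`. -/
theorem exists_improve {R : Type*} [CommRing R] (b : R) (m : ℕ) :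
    ∃ e : R, b ∣ e ∧ (1 - b) ∣ (1 - e) ∧ (b * (1 - b)) ^ m ∣ e * (1 - e) := by
  cases m with
  | zero => exact ⟨b, dvd_rfl, dvd_rfl, by simp⟩
  | succ n =>
    refine ⟨1 - (1 - b ^ (n + 1)) ^ (n + 1), ?_, ?_, ?_⟩
    · refine (dvd_pow_self b n.succ_ne_zero).trans ?_
      have h := sub_dvd_pow_sub_pow (1 : R) (1 - b ^ (n + 1)) (n + 1)
      rwa [sub_sub_cancel, one_pow] at h
    · rw [sub_sub_cancel]
      refine dvd_trans ?_ (dvd_pow_self _ n.succ_ne_zero)
      have h := sub_dvd_pow_sub_pow (1 : R) b (n + 1)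
      rwa [one_pow] at h
    · rw [sub_sub_cancel, mul_pow]
      refine mul_dvd_mul ?_ (pow_dvd_pow_of_dvd ?_ _)
      · have h := sub_dvd_pow_sub_pow (1 : R) (1 - b ^ (n + 1)) (n + 1)
        rwa [sub_sub_cancel, one_pow] at h
      · have h := sub_dvd_pow_sub_pow (1 : R) b (n + 1)
        rwa [one_pow] at h

theorem ev_eq_zero_of_dvd {X : Scheme.{u}} {V : X.Opens} {a b : Γ(X, V)} (h : a ∣ b) (x : X)
    (hx : x ∈ V) (ha : ev x hx a = 0) : ev x hx b = 0 := by
  obtain ⟨k, rfl⟩ := h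
  rw [map_mul, ha, zero_mul]

/-- Congruent idempotents are congruent. -/
theorem sub_mem_of_idem {R : Type*} [CommRing R] (J : Ideal R) (x y : R) (hx : x * (1 - x) ∈ J)
    (hy : y * (1 - y) ∈ J) (h : x - y ∈ J.radical) : x - y ∈ J := by
  obtain ⟨M, hM⟩ := h
  set π := Ideal.Quotient.mk J
  have hx' : π x * π x = π x := by
    have := Ideal.Quotient.eq_zero_iff_mem.2 hx
    rw [map_mul, map_sub, map_one] at this
    linear_combination -this
  have hy' : π y * π y = π y := by
    have := Ideal.Quotient.eq_zero_iff_mem.2 hy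
    rw [map_mul, map_sub, map_one] at this
    linear_combination -this
  have h3 : (π x - π y) ^ 3 = π x - π y := by
    linear_combination (π x + 1 - 3 * π y) * hx' + (-π y - 1 + 3 * π x) * hy'
  have hpow : ∀ k : ℕ, (π x - π y) ^ (2 * k + 1) = π x - π y := by
    intro k
    induction k with
    | zero => simp
    | succ k ih =>
      rw [show 2 * (k + 1) + 1 = 2 * k + 1 + 2 by ring, pow_add, ih, ← pow_succ', h3]
  have h0 : (π x - π y) ^ M = 0 := by
    rw [← map_sub, ← map_pow]; exact Ideal.Quotient.eq_zero_iff_mem.2 hM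
  refine Ideal.Quotient.eq_zero_iff_mem.1 ?_
  rw [map_sub, ← hpow M, show 2 * M + 1 = M + (M + 1) by omega, pow_add, h0, zero_mul]

variable {A : Type u} [CommRing A] {X : Scheme.{u}} (f : X ⟶ Spec (CommRingCat.of A)) (I : Ideal A)

theorem radical_map_pow (V : X.Opens) (n : ℕ) (hn : n ≠ 0) :
    ((I ^ n).map (σ f V)).radical = (I.map (σ f V)).radical := by
  rw [Ideal.map_pow, Ideal.radical_pow _ hn]

/-- Open-closed subsets of the closed fibre lift. -/
theorem exists_isClopen_noeth [IsNoetherianRing A] [HenselianRing A I] [IsProper f] (C C' : Set X)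
    (hC : IsClosed C) (hC' : IsClosed C') (hu : C ∪ C' = Z0 f I) (hd : Disjoint C C') :
    ∃ U : Set X, IsClopen U ∧ U ∩ Z0 f I = C := by
  classical
  haveI : CompactSpace X := QuasiCompact.compactSpace_of_compactSpace f
  haveI : X.IsSeparated := ⟨by rw [← terminal.comp_from f]; infer_instance⟩
  obtain ⟨κ, _, U, hU, -, hcov⟩ := QCoh.exists_finite_affine_cover (U := (⊤ : X.Opens))
    (by simpa using isCompact_univ)
  have hcov' : iSup U = ⊤ := top_le_iff.1 hcov
  have haff : ∀ (n : ℕ) (a : Fin (n + 1) → κ), IsAffineOpen (⨅ k, U (a k)) :=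
    fun n a => IsAffineOpen.iInf fun k => hU (a k)
  have haff2 : ∀ i j, IsAffineOpen (U i ⊓ U j) := fun i j => (hU i).inf (hU j)
  obtain ⟨⟨c, hc⟩, c', hc'⟩ := exists_glue f U I hcov' haff
  set n := c + 1
  have hn : ∀ (W : X.Opens), (I ^ n).map (σ f W) ≤ (I ^ c).map (σ f W) := fun W =>
    Ideal.map_mono (Ideal.pow_le_pow_right (Nat.le_succ c))
  -- values on the closed fibre
  let Good : ∀ {W : X.Opens}, Γ(X, W) → Prop := fun {W} s =>
    (∀ x (hx : x ∈ W), x ∈ C → ev x hx s = 0) ∧ ∀ x (hx : x ∈ W), x ∈ C' → ev x hx s = 1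
  have hgood : ∀ {W : X.Opens}, IsAffineOpen W → ∀ (s t : Γ(X, W)), Good s → Good t →
      s - t ∈ (I.map (σ f W)).radical := fun {W} hW s t hs ht =>
    mem_radical_of_vanish f I hW fun x hx hxZ => by
      rw [← hu] at hxZ
      rcases hxZ with hxZ | hxZ
      · rw [map_sub, hs.1 x hx hxZ, ht.1 x hx hxZ, sub_zero]
      · rw [map_sub, hs.2 x hx hxZ, ht.2 x hx hxZ, sub_self]
  have hres : ∀ {V W : X.Opens} (h : W ≤ V) (s : Γ(X, V)), Good s → Good (X.presheaf.map (homOfLE h).op s) :=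
    fun h s hs => ⟨fun x hx hxC => (ev_res h x hx s).trans (hs.1 x _ hxC),
      fun x hx hxC => (ev_res h x hx s).trans (hs.2 x _ hxC)⟩
  have himp : ∀ {W : X.Opens} (b e : Γ(X, W)), Good b → b ∣ e → (1 - b) ∣ (1 - e) → Good e :=
    fun {W} b e hb h1 h2 => ⟨fun x hx hxC => ev_eq_zero_of_dvd h1 x hx (hb.1 x hx hxC),
      fun x hx hxC => (sub_eq_zero.1 (by
        rw [← map_one (ev x hx), ← map_sub]
        exact ev_eq_zero_of_dvd h2 x hx (by rw [map_sub, map_one, hb.2 x hx hxC, sub_self]))).symm⟩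
  have hloc : ∀ i, ∃ e : Γ(X, U i), Good e ∧ e * (1 - e) ∈ (I ^ n).map (σ f (U i)) := by
    intro i
    obtain ⟨b, hb⟩ := exists_sep (hU i) hC hC' hd
    have hmem : b * (1 - b) ∈ ((I ^ n).map (σ f (U i))).radical := by
      rw [radical_map_pow f I _ n c.succ_ne_zero]
      refine mem_radical_of_vanish f I (hU i) fun x hx hxZ => ?_
      rw [← hu] at hxZ
      rcases hxZ with hxZ | hxZ
      · rw [map_mul, hb.1 x hx hxZ, zero_mul]
      · rw [map_mul, map_sub, map_one, hb.2 x hx hxZ, sub_self, mul_zero]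
    obtain ⟨m, hm⟩ := hmem
    obtain ⟨e, he1, he2, k, hk⟩ := exists_improve b m
    exact ⟨e, himp b e hb he1 he2, hk ▸ Ideal.mul_mem_right _ _ hm⟩
  choose e heG heI using hloc
  obtain ⟨b, hb⟩ := hc e fun i j => hn _ (by
    refine sub_mem_of_idem _ _ _ ?_ ?_ ?_
    · have h := map_mem f (inf_le_left : U i ⊓ U j ≤ U i) _ (heI i)
      rwa [map_mul, map_sub, map_one] at h
    · have h := map_mem f (inf_le_right : U i ⊓ U j ≤ U j) _ (heI j)
      rwa [map_mul, map_sub, map_one] at h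
    · rw [radical_map_pow f I _ n c.succ_ne_zero]
      exact hgood (haff2 i j) _ _ (hres _ _ (heG i)) (hres _ _ (heG j)))
  have hbev : ∀ x (i : κ) (hx : x ∈ U i), x ∈ Z0 f I → ev (V := ⊤) x trivial b = ev x hx (e i) := by
    intro x i hx hxZ
    have h := ev_eq_zero_of_mem_map f I (hb i) x hx hxZ
    rw [map_sub, sub_eq_zero, ev_res] at h
    exact h
  have hcovx : ∀ x : X, ∃ i, x ∈ U i := fun x => Opens.mem_iSup.1 (hcov' ▸ (trivial : x ∈ (⊤ : X.Opens)))
  have hbG : Good b := by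
    constructor <;> intro x _ hxC <;> obtain ⟨i, hi⟩ := hcovx x
    · exact (hbev x i hi (hu ▸ Or.inl hxC)).trans ((heG i).1 x hi hxC)
    · exact (hbev x i hi (hu ▸ Or.inr hxC)).trans ((heG i).2 x hi hxC)
  -- `b (1 - b)` is nilpotent modulo `I`
  have hbI : (b * (1 - b)) ^ c' ∈ I.map (σ f ⊤) := hc' _ fun i => by
    rw [map_pow, Ideal.map_pow]
    refine Ideal.pow_mem_pow ?_ c'
    have h1 := hb i
    set r := X.presheaf.map (homOfLE (le_top : U i ≤ ⊤)).op b with hr
    have he : e i * (1 - e i) ∈ I.map (σ f (U i)) :=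
      Ideal.map_mono (Ideal.pow_le_self c.succ_ne_zero) (heI i)
    rw [map_mul, map_sub, map_one, ← hr,
      show r * (1 - r) = e i * (1 - e i) + (r - e i) * (1 - r - e i) by ring]
    exact add_mem he (Ideal.mul_mem_right _ _ h1)
  obtain ⟨b', hb1, hb2, k, hk⟩ := exists_improve b c'
  have hb'G : Good b' := himp b b' hbG hb1 hb2
  have hb'I : b' * b' - b' ∈ I.map (σ f ⊤) := by
    rw [show b' * b' - b' = -(b' * (1 - b')) by ring, hk]
    exact neg_mem (Ideal.mul_mem_right _ _ hbI)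
  -- lift to an idempotent
  letI : Algebra A Γ(X, ⊤) := (σ f ⊤).toAlgebra
  haveI : Algebra.IsIntegral A Γ(X, ⊤) := by
    constructor
    have h1 : f.appTop.hom.IsIntegral := isIntegral_appTop_of_universallyClosed f
    have h2 : (σ f ⊤).IsIntegral := by
      have e : σ f ⊤ = f.appTop.hom.comp (Scheme.ΓSpecIso (CommRingCat.of A)).inv.hom := by
        rw [σ, Scheme.Hom.appLE]
        simp
      rw [e]
      exact RingHom.IsIntegral.trans _ _
        (RingHom.isIntegral_of_surjective _ (ConcreteCategory.bijective_of_isIso _).2) h1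
    exact h2
  obtain ⟨ε, hε, hεb⟩ := GrothLib.Hensel.exists_isIdempotentElem_lift (I := I) (b := b') hb'I
  have hεG : Good ε := by
    constructor <;> intro x hx hxC <;>
      have h := ev_eq_zero_of_mem_map f I hεb x hx (hu ▸ (by first | exact Or.inl hxC | exact Or.inr hxC))
    · rw [map_sub, sub_eq_zero] at h; exact h.trans (hb'G.1 x hx hxC)
    · rw [map_sub, sub_eq_zero] at h; exact h.trans (hb'G.2 x hx hxC)
  refine ⟨(X.basicOpen (1 - ε) : Set X), ⟨?_, (X.basicOpen _).isOpen⟩, ?_⟩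
  · have hcompl : (X.basicOpen (1 - ε) : Set X) = ((X.basicOpen ε : Set X))ᶜ := by
      ext x
      have h : ev (V := ⊤) x trivial ε * (1 - ev (V := ⊤) x trivial ε) = 0 := by
        rw [← map_one (ev (V := ⊤) x trivial), ← map_sub, ← map_mul, mul_sub, mul_one, hε.eq, sub_self, map_zero]
      have e1 := X.evaluation_ne_zero_iff_mem_basicOpen (U := ⊤) x trivial (1 - ε)
      have e2 := X.evaluation_eq_zero_iff_notMem_basicOpen (U := ⊤) x trivial ε
      refine (e1.symm.trans (Iff.trans ?_ e2) : x ∈ X.basicOpen (1 - ε) ↔ ¬ x ∈ X.basicOpen ε)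
      show ev (V := ⊤) x trivial (1 - ε) ≠ 0 ↔ ev (V := ⊤) x trivial ε = 0
      rw [map_sub, map_one]
      rcases mul_eq_zero.1 h with h' | h'
      · rw [h', sub_zero]; exact iff_of_true one_ne_zero rfl
      · rw [← sub_eq_zero.1 h']; exact iff_of_false (fun h => h (sub_self 1)) one_ne_zero
    rw [hcompl]
    exact (X.basicOpen ε).isOpen.isClosed_compl
  · ext x
    constructor
    · rintro ⟨hx, hxZ⟩
      rw [← hu] at hxZ
      refine hxZ.resolve_right fun hxC => ?_
      have h := (X.evaluation_ne_zero_iff_mem_basicOpen (U := ⊤) x trivial (1 - ε)).2 hx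
      exact h (show ev (V := ⊤) x trivial (1 - ε) = 0 by rw [map_sub, map_one, hεG.2 x trivial hxC, sub_self])
    · intro hxC
      refine ⟨(X.evaluation_ne_zero_iff_mem_basicOpen (U := ⊤) x trivial (1 - ε)).1 ?_, hu ▸ Or.inl hxC⟩
      show ev (V := ⊤) x trivial (1 - ε) ≠ 0
      rw [map_sub, map_one, hεG.1 x trivial hxC, sub_zero]
      exact one_ne_zero

end GrothLib.PropH0
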