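import Groth.Agent.Lib.PropH0.Spectral
import Groth.Agent.Lib.PropH0.TopSheaf
import Mathlib.Topology.LocallyConstant.Basic

/-!
# Restriction of global sections to a closed subset meeting every closure of a point in a connected set
-/

set_option autoImplicit false
set_option backward.isDefEq.respectTransparency false
universe u

open CategoryTheory Limits Opposite TopologicalSpace TopCat

namespace GrothLib.PropH0

theorem bijective_restrict (X : TopCat.{u}) [SpectralSpace X]
    (Z : Set X) (hZ : IsClosed Z) (hconn : ∀ x : X, IsConnected (Z ∩ closure {x}))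
    (F : TopCat.Sheaf (Type u) X) :
    Function.Bijective
      (((TopCat.Sheaf.pullbackPushforwardAdjunction (Type u)
        (TopCat.ofHom ⟨(Subtype.val : Z → X), continuous_subtype_val⟩)).unit.app F).hom.app (op ⊤)) := by
  classical
  let f : TopCat.of Z ⟶ X := TopCat.ofHom ⟨(Subtype.val : Z → X), continuous_subtype_val⟩
  let G := (TopCat.Sheaf.pullback (Type u) f).obj F
  let η := (TopCat.Sheaf.pullbackPushforwardAdjunction (Type u) f).unit.app F
  have hτ : ∀ z : Z, Function.Bijective (unitStalk f F z) := bijective_unitStalk f F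
  have hgerm : ∀ (z : Z) (U : Opens X) (hU : (z : X) ∈ U) (t : F.obj.obj (op U)),
      unitStalk f F z (F.presheaf.germ U z hU t) =
        G.presheaf.germ ((Opens.map f).obj U) z hU (η.hom.app (op U) t) :=
    fun z U hU t => unitStalk_germ f F z U hU t
  have hsp : ∀ x : X, ∃ z : Z, x ⤳ (z : X) := fun x => by
    obtain ⟨z, hz, hzx⟩ := (hconn x).nonempty
    exact ⟨⟨z, hz⟩, specializes_iff_mem_closure.2 hzx⟩
  constructor
  · intro s t hst
    refine TopCat.Presheaf.section_ext F ⊤ s t fun x _ => ?_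
    obtain ⟨z, hxz⟩ := hsp x
    have hz : F.presheaf.germ ⊤ (z : X) True.intro s = F.presheaf.germ ⊤ (z : X) True.intro t :=
      (hτ z).1 ((hgerm z ⊤ True.intro s).trans ((congrArg _ hst).trans (hgerm z ⊤ True.intro t).symm))
    have := congrArg (F.presheaf.stalkSpecializes hxz) hz
    rwa [TopCat.Presheaf.germ_stalkSpecializes_apply, TopCat.Presheaf.germ_stalkSpecializes_apply] at this
  · intro s
    let s' : G.obj.obj (op ((Opens.map f).obj ⊤)) := s
    let a : ∀ z : Z, F.presheaf.stalk (z : X) := fun z =>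
      ((hτ z).2 (G.presheaf.germ ((Opens.map f).obj ⊤) z True.intro s')).choose
    have ha : ∀ z : Z, unitStalk f F z (a z) = G.presheaf.germ ((Opens.map f).obj ⊤) z True.intro s' :=
      fun z => ((hτ z).2 (G.presheaf.germ ((Opens.map f).obj ⊤) z True.intro s')).choose_spec
    have hloc : ∀ z : Z, ∃ (V : Opens X) (t : F.obj.obj (op V)), (z : X) ∈ V ∧ IsCompact (V : Set X) ∧
        ∀ (z' : Z) (h : (z' : X) ∈ V), F.presheaf.germ V (z' : X) h t = a z' := by
      intro z
      obtain ⟨U, hU, t₀, ht₀⟩ := TopCat.Presheaf.germ_exist (F := F.presheaf) (a z)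
      have e : G.presheaf.germ ((Opens.map f).obj U) z hU (η.hom.app (op U) t₀) =
          G.presheaf.germ ((Opens.map f).obj ⊤) z True.intro s' := by
        rw [← hgerm z U hU t₀, ← ha z]
        exact congrArg (unitStalk f F z) ht₀
      obtain ⟨W, hzW, i₁, i₂, hW⟩ := TopCat.Presheaf.germ_eq G.presheaf (U := (Opens.map f).obj U) (V := (Opens.map f).obj ⊤) z hU True.intro _ _ e
      obtain ⟨O, hO, hOW⟩ := isOpen_induced_iff.1 W.isOpen
      obtain ⟨V, hV, hzV, hVO⟩ := PrespectralSpace.isTopologicalBasis.exists_subset_of_mem_open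
        (show (z : X) ∈ (U : Set X) ∩ O from ⟨hU, by
          change z ∈ Subtype.val ⁻¹' O
          rw [hOW]; exact hzW⟩) (U.isOpen.inter hO)
      refine ⟨⟨V, hV.1⟩, F.obj.map (homOfLE (fun x hx => (hVO hx).1 : (⟨V, hV.1⟩ : Opens X) ≤ U)).op t₀,
        hzV, hV.2, fun z' hz' => (hτ z').1 ?_⟩
      have hz'W : z' ∈ W := by
        change z' ∈ (W : Set Z)
        rw [← hOW]; exact (hVO hz').2
      rw [ha z']
      refine (congrArg (unitStalk f F z') (TopCat.Presheaf.germ_res_apply F.presheaf _ (z' : X) hz' t₀)).trans ?_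
      refine (hgerm z' U (hVO hz').1 t₀).trans ?_
      rw [← TopCat.Presheaf.germ_res_apply G.presheaf i₁ z' hz'W, ← TopCat.Presheaf.germ_res_apply G.presheaf i₂ z' hz'W]
      exact congrArg (G.presheaf.germ W z' hz'W) hW
    choose V t hzV hVc ht using hloc
    obtain ⟨T, hT⟩ := hZ.isCompact.elim_finite_subcover (fun z : Z => (V z : Set X)) (fun z => (V z).isOpen)
      (fun x hx => Set.mem_iUnion.2 ⟨⟨x, hx⟩, hzV _⟩)
    let φ : ∀ x : X, {z : Z // x ⤳ (z : X)} → F.presheaf.stalk x := fun x z =>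
      F.presheaf.stalkSpecializes z.2 (a z.1)
    have hφ : ∀ (x : X) (z : {z : Z // x ⤳ (z : X)}) (j : Z) (hzj : (z.1 : X) ∈ V j),
        φ x z = F.presheaf.germ (V j) x (z.2.mem_open (V j).isOpen hzj) (t j) := fun x z j hzj => by
      show F.presheaf.stalkSpecializes z.2 (a z.1) = _
      rw [← ht j z.1 hzj]
      exact TopCat.Presheaf.germ_stalkSpecializes_apply F.presheaf hzj z.2 (t j)
    have hconst : ∀ (x : X) (z z' : {z : Z // x ⤳ (z : X)}), φ x z = φ x z' := by
      intro x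
      haveI : PreconnectedSpace {z : Z // x ⤳ (z : X)} := by
        haveI := isPreconnected_iff_preconnectedSpace.1 (hconn x).isPreconnected
        exact DenseRange.preconnectedSpace (α := (Z ∩ closure {x} : Set X))
          (f := fun y => (⟨⟨y.1, y.2.1⟩, specializes_iff_mem_closure.2 y.2.2⟩ : {z : Z // x ⤳ (z : X)}))
          (Function.Surjective.denseRange fun z => ⟨⟨z.1.1, z.1.2, z.2.mem_closure⟩, rfl⟩)
          (by fun_prop)
      have : IsLocallyConstant (φ x) := (IsLocallyConstant.iff_exists_open _).2 fun z => by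
        refine ⟨(fun w : {z : Z // x ⤳ (z : X)} => (w.1 : X)) ⁻¹' (V z.1),
          (V z.1).isOpen.preimage (by fun_prop), hzV z.1, fun w hw => ?_⟩
        rw [hφ x w z.1 hw, hφ x z z.1 (hzV z.1)]
      exact fun z z' => this.apply_eq_of_preconnectedSpace z z'
    let σ : ∀ x : X, F.presheaf.stalk x := fun x => φ x ⟨(hsp x).choose, (hsp x).choose_spec⟩
    have hσ : ∀ (x : X) (z : Z) (_ : x ⤳ (z : X)) (j : Z) (hxj : x ∈ V j), (z : X) ∈ V j →
        σ x = F.presheaf.germ (V j) x hxj (t j) := fun x z hxz j hxj hzj =>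
      (hconst x _ ⟨z, hxz⟩).trans (hφ x ⟨z, hxz⟩ j hzj)
    have hsec : ∀ x : X, ∃ (O : Opens X) (u : F.obj.obj (op O)), x ∈ O ∧
        ∀ (y : X) (hy : y ∈ O), F.presheaf.germ O y hy u = σ y := by
      intro x
      obtain ⟨z, hxz⟩ := hsp x
      obtain ⟨i, hiT, hzi⟩ := Set.mem_iUnion₂.1 (hT z.2)
      let Agree : Z → Set X := fun j => {y | ∃ (hi : y ∈ V i) (hj : y ∈ V j),
        F.presheaf.germ (V i) y hi (t i) = F.presheaf.germ (V j) y hj (t j)}
      have hAg : ∀ j, IsOpen (Agree j) := fun j => isOpen_iff_forall_mem_open.2 fun y hy => by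
        obtain ⟨hi, hj, e⟩ := hy
        obtain ⟨W, hyW, i₁, i₂, hW⟩ := TopCat.Presheaf.germ_eq _ y hi hj _ _ e
        refine ⟨W, fun y' hy' => ⟨i₁.le hy', i₂.le hy', ?_⟩, W.isOpen, hyW⟩
        rw [← TopCat.Presheaf.germ_res_apply F.presheaf i₁ y' hy', ← TopCat.Presheaf.germ_res_apply F.presheaf i₂ y' hy']
        exact congrArg (F.presheaf.germ W y' hy') hW
      let D : Set X := ⋃ j : T, (((V i : Set X) ∩ (V j.1 : Set X)) ∩ gen (Z ∩ V j.1)) ∩ (Agree j.1)ᶜ
      have hD : CClosed D := cClosed_iUnion fun j =>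
        (((cClosed_of_isCompact_of_isOpen (hVc i) (V i).isOpen).inter
          (cClosed_of_isCompact_of_isOpen (hVc j.1) (V j.1).isOpen)).inter
          (cClosed_gen ((hVc j.1).inter_left hZ))).inter (cClosed_of_isClosed (hAg j.1).isClosed_compl)
      have hxD : x ∉ closure D := by
        intro hx
        obtain ⟨d, hd, hdx⟩ := exists_specializes_of_mem_closure hD hx
        obtain ⟨j, ⟨⟨⟨hdi, hdj⟩, w, ⟨hwZ, hwj⟩, hdw⟩, hdA⟩⟩ := Set.mem_iUnion.1 hd
        exact hdA ⟨hdi, hdj, (hσ d z (hdx.trans hxz) i hdi hzi).symm.trans (hσ d ⟨w, hwZ⟩ hdw j.1 hdj hwj)⟩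
      let O : Opens X := ⟨(V i : Set X) ∩ (closure D)ᶜ, (V i).isOpen.inter isClosed_closure.isOpen_compl⟩
      have hOi : O ≤ V i := fun y hy => hy.1
      refine ⟨O, F.obj.map (homOfLE hOi).op (t i), ⟨hxz.mem_open (V i).isOpen hzi, hxD⟩, fun y hy => ?_⟩
      refine (TopCat.Presheaf.germ_res_apply F.presheaf (homOfLE hOi) y hy (t i)).trans ?_
      obtain ⟨w, hyw⟩ := hsp y
      obtain ⟨j, hjT, hwj⟩ := Set.mem_iUnion₂.1 (hT w.2)
      have hyj : y ∈ V j := hyw.mem_open (V j).isOpen hwj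
      by_cases hA : y ∈ Agree j
      · obtain ⟨_, _, e⟩ := hA
        exact e.trans (hσ y w hyw j hyj hwj).symm
      · exact (hy.2 (subset_closure (Set.mem_iUnion.2 ⟨⟨j, hjT⟩,
          ⟨⟨hOi hy, hyj⟩, w, ⟨w.2, hwj⟩, hyw⟩, hA⟩))).elim
    choose O u hxO hu using hsec
    obtain ⟨g, hg, -⟩ := F.existsUnique_gluing' O ⊤ (fun x => homOfLE le_top)
      (fun x _ => Opens.mem_iSup.2 ⟨x, hxO x⟩) u (fun x y => by
        refine TopCat.Presheaf.section_ext F _ _ _ fun w hw => ?_
        exact (TopCat.Presheaf.germ_res_apply F.presheaf _ w hw _).trans ((hu x w hw.1).trans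
          ((hu y w hw.2).symm.trans (TopCat.Presheaf.germ_res_apply F.presheaf _ w hw _).symm)))
    refine ⟨g, TopCat.Presheaf.section_ext G _ _ s' fun z _ => ?_⟩
    refine (hgerm z ⊤ True.intro g).symm.trans ((congrArg (unitStalk f F z) ?_).trans (ha z))
    have hgz : F.presheaf.germ ⊤ (z : X) True.intro g = σ z := by
      rw [← hu (z : X) z (hxO z), ← hg (z : X)]
      exact (TopCat.Presheaf.germ_res_apply F.presheaf _ (z : X) (hxO z) g).symm
    rw [hgz, hσ z z specializes_rfl z (hzV z) (hzV z), ht z z (hzV z)]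

end GrothLib.PropH0
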