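import Groth.Agent.Lib.PropH0.Clopen
import Groth.Agent.Lib.Chow.Main
import Groth.Agent.Lib.Chow.Projective

/-!
# Lifting proper open-closed subsets of the closed fibre
-/

set_option autoImplicit false
universe u

open CategoryTheory CategoryTheory.Limits AlgebraicGeometry Opposite TopologicalSpace

namespace GrothLib.PropH0

variable {A : Type u} [CommRing A] (I : Ideal A) [HenselianRing A I]

theorem isClosedImmersion_ι_of_isClosed {X : Scheme.{u}} (W : X.Opens) (h : IsClosed (W : Set X)) :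
    IsClosedImmersion W.ι :=
  IsClosedImmersion.of_isPreimmersion W.ι (by rw [Scheme.Opens.range_ι]; exact h)

omit [HenselianRing A I] in
/-- A closed subset of a proper open part of the closed fibre, inside a separated scheme. -/
theorem isClosed_image {P Q : Scheme.{u}} (g : P ⟶ Q) (p : Q ⟶ Spec (CommRingCat.of A))
    [IsSeparated p] [IsProper (g ≫ p)] : IsClosed (Set.range g.base) :=
  haveI : IsProper g := IsProper.of_comp g p
  g.isClosedMap.isClosed_range

theorem exists_clopen_proper {X : Scheme.{u}} (f : X ⟶ Spec (CommRingCat.of A)) [IsSeparated f]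
    [LocallyOfFiniteType f] [QuasiCompact f]
    (Y : (pullback f (Spec.map (CommRingCat.ofHom (Ideal.Quotient.mk I)))).Opens)
    (hYc : IsClosed (Y : Set ↥(pullback f (Spec.map (CommRingCat.ofHom (Ideal.Quotient.mk I))))))
    (hYp : IsProper (Y.ι ≫ pullback.snd f (Spec.map (CommRingCat.ofHom (Ideal.Quotient.mk I))))) :
    ∃ W : X.Opens, IsClosed (W : Set X) ∧ IsProper (W.ι ≫ f) ∧
      pullback.fst f (Spec.map (CommRingCat.ofHom (Ideal.Quotient.mk I))) ⁻¹ᵁ W = Y := by
  let s := Spec.map (CommRingCat.ofHom (Ideal.Quotient.mk I))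
  let i := pullback.fst f s
  haveI : IsClosedImmersion s := IsClosedImmersion.spec_of_surjective _ Ideal.Quotient.mk_surjective
  haveI : IsProper (Y.ι ≫ pullback.snd f s) := hYp
  -- Chow's lemma and the closure
  obtain ⟨M, X', π, j, _, hjb, _, hπs⟩ := GrothLib.Chow.chow f
  let pb := CohB1.ProjSpaceOver.toBase M (Spec (CommRingCat.of A))
  haveI : IsProper pb := GrothLib.Chow.isProper_toBase M _
  haveI : QuasiCompact (π ≫ f) := inferInstance
  haveI : QuasiCompact (j ≫ pb) := hjb ▸ inferInstance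
  haveI : QuasiCompact j := QuasiCompact.of_comp j pb
  let k := j.toImage
  let fb := j.imageι ≫ pb
  haveI : IsOpenImmersion k := inferInstance
  have hk : k ≫ fb = π ≫ f := by rw [show k ≫ fb = j ≫ pb from Scheme.Hom.toImage_imageι_assoc _ _]; exact hjb
  -- the subset upstairs
  let Y' : Set X' := π.base ⁻¹' (i.base '' (Y : Set _))
  let P := pullback π (Y.ι ≫ i)
  have hZP : IsProper (pullback.fst π (Y.ι ≫ i) ≫ k ≫ fb) := by
    rw [hk, pullback.condition_assoc, Category.assoc, show i ≫ f = pullback.snd f s ≫ s from pullback.condition,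
      ← Category.assoc Y.ι]
    infer_instance
  have hY' : Y' = Set.range (pullback.fst π (Y.ι ≫ i)).base := by
    rw [Scheme.Pullback.range_fst, Scheme.Hom.comp_base, TopCat.coe_comp, Set.range_comp, Scheme.Opens.range_ι]
  have hC : IsClosed (k.base '' Y') := by
    rw [hY', ← Set.range_comp]
    haveI : IsProper ((pullback.fst π (Y.ι ≫ i) ≫ k) ≫ fb) := by rwa [Category.assoc]
    exact isClosed_image (pullback.fst π (Y.ι ≫ i) ≫ k) fb
  have hiY : ∀ x, x ∈ i.base '' (Y : Set _) → x ∈ Z0 f I := fun x hx =>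
    (range_fst_eq_Z0 f I).subset (Set.image_subset_range _ _ hx)
  have hkZ : ∀ x, k.base x ∈ Z0 fb I ↔ π.base x ∈ Z0 f I := fun x => by
    have : Z0 (k ≫ fb) I = Z0 (π ≫ f) I := by rw [hk]
    exact Set.ext_iff.1 this x
  have hsub : k.base '' Y' ⊆ Z0 fb I := by
    rintro _ ⟨x, hx, rfl⟩
    exact (hkZ x).2 (hiY _ hx)
  -- its complement in the closed fibre
  obtain ⟨O, hO, hOY⟩ : ∃ O : Set X, IsOpen O ∧ i.base ⁻¹' O = (Y : Set _) :=
    isOpen_induced_iff.1 ((i.isClosedEmbedding.isInducing.isOpen_iff).1 Y.isOpen)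
  have hYO : ∀ x ∈ Z0 f I, (x ∈ i.base '' (Y : Set _) ↔ x ∈ O) := fun x hx => by
    obtain ⟨q, rfl⟩ := (range_fst_eq_Z0 f I).symm.subset hx
    show (i.base q ∈ i.base '' (Y : Set _) ↔ i.base q ∈ O)
    rw [i.isClosedEmbedding.injective.mem_set_image, ← hOY]
    rfl
  have hC' : IsClosed (Z0 fb I \ k.base '' Y') := by
    have : Z0 fb I \ k.base '' Y' = Z0 fb I ∩ (k.base '' (π.base ⁻¹' O))ᶜ := by
      ext z
      refine and_congr_right fun hz => not_congr ⟨?_, ?_⟩
      · rintro ⟨x, hx, rfl⟩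
        exact ⟨x, (hYO _ (hiY _ hx)).1 hx, rfl⟩
      · rintro ⟨x, hx, rfl⟩
        refine ⟨x, (hYO _ ?_).2 hx, rfl⟩
        exact (hkZ x).1 hz
    rw [this]
    exact (isClosed_Z0 fb I).inter (k.isOpenEmbedding.isOpenMap _ (hO.preimage π.continuous)).isClosed_compl
  obtain ⟨W'', ⟨hW, hWe⟩, -⟩ := existsUnique_isClopen fb I hC hC' (Set.union_sdiff_cancel hsub) Set.disjoint_sdiff_right
  have hWk : W'' ⊆ Set.range k.base := by
    by_contra hne
    obtain ⟨z, hz, hzk⟩ := Set.not_subset.1 hne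
    obtain ⟨z', ⟨hz', hzk'⟩, hzZ⟩ := inter_Z0_nonempty fb I HenselianRing.jac
      (hW.1.inter (k.isOpenEmbedding.isOpen_range.isClosed_compl)) ⟨z, hz, hzk⟩
    exact hzk' (Set.image_subset_range _ _ (hWe.subset ⟨hz', hzZ⟩))
  let W' : X'.Opens := ⟨k.base ⁻¹' W'', hW.2.preimage k.continuous⟩
  have hW'c : IsClosed (W' : Set X') := hW.1.preimage k.continuous
  haveI : IsProper (W'.ι ≫ π ≫ f) := by
    rw [← hk]
    have hr : Set.range (W'.ι ≫ k).base = W'' := by
      rw [Scheme.Hom.comp_base, TopCat.coe_comp, Set.range_comp, Scheme.Opens.range_ι]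
      exact Set.image_preimage_eq_of_subset hWk
    haveI : IsClosedImmersion (W'.ι ≫ k) := IsClosedImmersion.of_isPreimmersion _ (hr.symm ▸ hW.1)
    rw [← Category.assoc]
    infer_instance
  have hW'Z : ∀ x, (π.base x) ∈ Z0 f I → (x ∈ W' ↔ π.base x ∈ i.base '' (Y : Set _)) := by
    intro x hx
    have hkx : k.base x ∈ Z0 fb I := (hkZ x).2 hx
    show k.base x ∈ W'' ↔ x ∈ Y'
    rw [← k.isOpenEmbedding.injective.mem_set_image (s := Y'), ← hWe]
    exact ⟨fun h => ⟨h, hkx⟩, fun h => h.1⟩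
  -- the image downstairs
  let W : Set X := π.base '' (W' : Set X')
  have hWc : IsClosed W := π.isClosedMap _ hW'c
  have hsat : π.base ⁻¹' W ⊆ (W' : Set X') := by
    intro x hx
    by_contra hxW
    let D : Set X' := π.base ⁻¹' W ∩ (W' : Set X')ᶜ
    have hD : IsClosed (π.base '' D) :=
      π.isClosedMap _ ((hWc.preimage π.continuous).inter W'.isOpen.isClosed_compl)
    have hne : ((W'.ι ≫ π).base ⁻¹' (π.base '' D)).Nonempty := by
      obtain ⟨w, hw, hwx⟩ := hx
      exact ⟨⟨w, hw⟩, x, ⟨⟨w, hw, hwx⟩, hxW⟩, hwx.symm⟩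
    obtain ⟨q, ⟨d, ⟨-, hdW⟩, hd⟩, hqZ⟩ := inter_Z0_nonempty (W'.ι ≫ π ≫ f) I HenselianRing.jac
      (hD.preimage (W'.ι ≫ π).continuous) hne
    have hq : π.base (W'.ι.base q) ∈ i.base '' (Y : Set _) := (hW'Z _ hqZ).1 q.2
    have hd' : π.base d = π.base (W'.ι.base q) := hd
    refine hdW ((hW'Z d (by rw [hd']; exact hqZ)).2 ?_)
    rw [hd']; exact hq
  have hWo : IsOpen W := by
    have hcl : IsClosed Wᶜ := by
      have : Wᶜ = π.base '' (W' : Set X')ᶜ := by
        ext x
        constructor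
        · intro hx
          obtain ⟨y, rfl⟩ := π.surjective x
          exact ⟨y, fun hy => hx ⟨y, hy, rfl⟩, rfl⟩
        · rintro ⟨y, hy, rfl⟩ hmem
          exact hy (hsat hmem)
      rw [this]
      exact π.isClosedMap _ W'.isOpen.isClosed_compl
    exact isClosed_compl_iff.1 hcl
  let Wo : X.Opens := ⟨W, hWo⟩
  refine ⟨Wo, hWc, ?_, ?_⟩
  · haveI := isClosedImmersion_ι_of_isClosed Wo hWc
    let q : W'.toScheme ⟶ Wo.toScheme := IsOpenImmersion.lift Wo.ι (W'.ι ≫ π)
      (by
        rintro _ ⟨w, rfl⟩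
        rw [Scheme.Opens.range_ι]
        exact ⟨_, w.2, rfl⟩)
    have hq : q ≫ Wo.ι = W'.ι ≫ π := IsOpenImmersion.lift_fac _ _ _
    haveI : Surjective q := ⟨fun x => by
      obtain ⟨w, hw, hwx⟩ := x.2
      refine ⟨⟨w, hw⟩, Wo.ι.isOpenEmbedding.injective ?_⟩
      show (q ≫ Wo.ι).base _ = _
      rw [hq]; exact hwx⟩
    haveI : UniversallyClosed (q ≫ Wo.ι ≫ f) := by
      rw [← Category.assoc, hq, Category.assoc]; infer_instance
    haveI : UniversallyClosed (Wo.ι ≫ f) := UniversallyClosed.of_comp_surjective q _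
    exact {}
  · refine TopologicalSpace.Opens.ext (Set.ext fun y => ?_)
    have hyZ : i.base y ∈ Z0 f I := (range_fst_eq_Z0 f I).subset ⟨y, rfl⟩
    constructor
    · rintro ⟨w, hw, hwy⟩
      have := (hW'Z w (by rw [hwy]; exact hyZ)).1 hw
      rw [hwy] at this
      exact (i.isClosedEmbedding.injective.mem_set_image).1 this
    · intro hy
      obtain ⟨w, hw⟩ := π.surjective (i.base y)
      exact ⟨w, (hW'Z w (by rw [hw]; exact hyZ)).2 (by rw [hw]; exact ⟨y, hy, rfl⟩), hw⟩

end GrothLib.PropH0
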